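/-
Exponents of self-reciprocal polynomials of degree at most eight over a finite field of characteristic two.
-/
import Mathlib

set_option autoImplicit false

namespace CfsgLib.SpFourTwins.Eight

open Polynomial

/-- The maximal element orders of `Sp(8, q)`, `q` even. -/
def lst (q : ℕ) : List ℕ :=
  [8 * (q - 1), 8 * (q + 1), 4 * (q ^ 2 - 1), 4 * (q ^ 2 + 1), 2 * ((q ^ 2 + 1) * (q - 1)),
    2 * ((q ^ 2 + 1) * (q + 1)), 2 * (q ^ 3 - 1), 2 * (q ^ 3 + 1), q ^ 4 - 1, q ^ 4 + 1,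
    (q ^ 3 + 1) * (q - 1), (q ^ 3 - 1) * (q + 1)]

/-- The divisors of these numbers. -/
def AdmEight (q n : ℕ) : Prop := ∃ N ∈ lst q, n ∣ N

lemma AdmEight.mono {q m n : ℕ} (h : AdmEight q n) (hmn : m ∣ n) : AdmEight q m :=
  let ⟨N, hN, hd⟩ := h
  ⟨N, hN, hmn.trans hd⟩

section Reverse

variable {K : Type*} [Field K]

lemma reverse_X_sub_C {ρ : K} (h : ρ ≠ 0) : (X - C ρ).reverse = C (-ρ) * (X - C ρ⁻¹) := by
  rw [show (X - C ρ : K[X]) = C (-ρ) + X by rw [map_neg]; ring, reverse_C_add, natDegree_X, pow_one,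
    show (X : K[X]).reverse = 1 by simp [reverse, reflect], map_neg, mul_sub, neg_mul, neg_mul, ← C_mul,
    mul_inv_cancel₀ h, C_1]
  ring

lemma roots_reverse_prod (R : Multiset K) (hR : (0 : K) ∉ R) :
    ((R.map fun ρ => X - C ρ).prod).reverse.roots = R.map fun ρ => ρ⁻¹ := by
  suffices h : ∃ c : K, c ≠ 0 ∧ ((R.map fun ρ => X - C ρ).prod).reverse =
      C c * ((R.map fun ρ => ρ⁻¹).map fun ρ => X - C ρ).prod by
    obtain ⟨c, hc, h⟩ := h
    rw [h, roots_C_mul _ hc, roots_multiset_prod_X_sub_C]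
  induction R using Multiset.induction_on with
  | empty => exact ⟨1, one_ne_zero, by rw [Multiset.map_zero, Multiset.prod_zero, ← C_1, reverse_C]; simp⟩
  | cons a R ih =>
    rw [Multiset.mem_cons, not_or] at hR
    obtain ⟨c, hc, h⟩ := ih hR.2
    refine ⟨-a * c, mul_ne_zero (neg_ne_zero.2 (Ne.symm hR.1)) hc, ?_⟩
    rw [Multiset.map_cons, Multiset.prod_cons, reverse_mul_of_domain, h, reverse_X_sub_C (Ne.symm hR.1),
      Multiset.map_cons, Multiset.map_cons, Multiset.prod_cons, C_mul]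
    ring

/-- A polynomial annihilating the inverse gives, reversed, one annihilating the element. -/
lemma aeval_reverse_eq_zero {A : Type*} [Ring A] [Algebra K A] {g h : A} (hgh : g * h = 1) (p : K[X])
    (hp : aeval h p = 0) : aeval g p.reverse = 0 := by
  have key : ∀ i, i ≤ p.natDegree → g ^ p.natDegree * h ^ i = g ^ (p.natDegree - i) := by
    intro i hi
    have hone : ∀ j : ℕ, g ^ j * h ^ j = 1 := by
      intro j
      induction j with
      | zero => simp
      | succ j ih => rw [pow_succ, pow_succ', mul_assoc, ← mul_assoc g, hgh, one_mul, ih]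
    conv_lhs => rw [← Nat.sub_add_cancel hi, pow_add, mul_assoc, hone, mul_one]
  rw [aeval_eq_sum_range' (n := p.natDegree + 1) (Nat.lt_succ_of_le p.reverse_natDegree_le),
    ← Finset.sum_range_reflect]
  calc _ = g ^ p.natDegree * aeval h p := ?_
    _ = 0 := by rw [hp, mul_zero]
  rw [aeval_eq_sum_range, Finset.mul_sum]
  refine Finset.sum_congr rfl fun j hj => ?_
  have hj' : j ≤ p.natDegree := Nat.lt_succ_iff.1 (Finset.mem_range.1 hj)
  rw [coeff_reverse, show p.natDegree + 1 - 1 - j = p.natDegree - j by omega, revAt_le (by omega),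
    Nat.sub_sub_self hj', mul_smul_comm, key j hj']

end Reverse

variable {F : Type*} [Field F] [Fintype F] [CharP F 2]

/-- A self-reciprocal polynomial of degree at most eight divides `X ^ N - 1` for some listed `N`. -/
theorem exists_exp {P : F[X]} (hm : P.Monic) (hd : P.natDegree ≤ 8) (h0 : P.coeff 0 ≠ 0)
    (hr : P ∣ P.reverse) : ∃ N ∈ lst (Fintype.card F), P ∣ X ^ N - 1 := by
  classical
  have : Fact (Nat.Prime 2) := ⟨Nat.prime_two⟩
  obtain ⟨e, -, hq⟩ := FiniteField.card F 2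
  set q := Fintype.card F with hqdef
  have h1q : 2 ≤ q := Fintype.one_lt_card
  let K := AlgebraicClosure F
  have : CharP K 2 := charP_of_injective_algebraMap (algebraMap F K).injective 2
  set φ : F →+* K := algebraMap F K with hφ
  set σ : K →+* K := iterateFrobenius K 2 e with hσ
  have hσv : ∀ x, σ x = x ^ q := fun x => by rw [hσ, iterateFrobenius_def, hq]
  have hinj : ∀ {x y : K}, x ^ q = y ^ q → x = y := fun {x y} h => σ.injective (by rw [hσv, hσv, h])
  set R := (P.map φ).roots with hR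
  have hmon : (P.map φ).Monic := hm.map φ
  have hsp : (P.map φ).Splits := IsAlgClosed.splits _
  have hcard : R.card ≤ 8 := (card_roots' _).trans (by rwa [natDegree_map])
  have hR0 : (0 : K) ∉ R := fun h => h0 (φ.injective (by
    rw [map_zero, ← coeff_map, coeff_zero_eq_eval_zero]
    exact (mem_roots hmon.ne_zero).1 h))
  have hprod : P.map φ = (R.map fun ρ => X - C ρ).prod := hsp.eq_prod_roots_of_monic hmon
  -- closed under inversion
  have hinvR : R.map (fun ρ => ρ⁻¹) = R := by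
    have hrev : (P.map φ).reverse = P.reverse.map φ := by
      rw [reverse, reverse, natDegree_map, reflect_map]
    have hdvd : P.map φ ∣ (P.map φ).reverse := by rw [hrev]; exact map_dvd φ hr
    have hne : (P.map φ).reverse ≠ 0 := by
      rw [hrev, Ne, Polynomial.map_eq_zero, reverse_eq_zero]; exact hm.ne_zero
    rw [← roots_reverse_prod R hR0, ← hprod]
    refine (Multiset.eq_of_le_of_card_le (roots.le_of_dvd hne hdvd) ?_).symm
    refine (card_roots' _).trans ((reverse_natDegree_le _).trans ?_)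
    rw [← hR, hprod, natDegree_multiset_prod_X_sub_C_eq_card]
  -- closed under Frobenius
  have hfrR : R.map σ = R := by
    rw [hR, ← hsp.roots_map σ, Polynomial.map_map]
    congr 2
    ext x
    rw [RingHom.comp_apply, hσv, ← map_pow, FiniteField.pow_card]
  have cinv : ∀ x, R.count x⁻¹ = R.count x := fun x => by
    conv_lhs => rw [← hinvR]
    exact Multiset.count_map_eq_count' _ _ inv_injective x
  have cfr : ∀ x, R.count (x ^ q) = R.count x := fun x => by
    conv_lhs => rw [← hfrR, ← hσv]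
    exact Multiset.count_map_eq_count' _ _ σ.injective x
  have sum_le : ∀ T : Finset K, ∑ z ∈ T, R.count z ≤ 8 := fun T => by
    refine le_trans ?_ hcard
    rw [← R.toFinset_sum_count_eq, ← Finset.sum_filter_add_sum_filter_not T (· ∈ R.toFinset),
      Finset.sum_eq_zero (s := T.filter fun z => ¬ z ∈ R.toFinset) (fun z hz => by
        simpa using (Finset.mem_filter.1 hz).2), add_zero]
    exact Finset.sum_le_sum_of_subset fun z hz => (Finset.mem_filter.1 hz).2
  -- dividing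
  have fin : ∀ s L, (∀ z ∈ R, z ^ L = 1) → (∀ z ∈ R, R.count z ≤ 2 ^ s) → 2 ^ s * L ∈ lst q →
      ∃ N ∈ lst q, P ∣ X ^ N - 1 := by
    intro s L hL hs hN
    refine ⟨_, hN, ?_⟩
    rw [← map_dvd_map φ φ.injective hm, Polynomial.map_sub, Polynomial.map_pow, map_X, Polynomial.map_one]
    have hx : (X : K[X]) ^ (2 ^ s * L) - 1 = (X ^ L - 1) ^ (2 ^ s) := by
      rw [sub_pow_char_pow, ← pow_mul, mul_comm L, one_pow]
    rw [hx, hprod, Finset.prod_multiset_map_count]
    refine Finset.prod_dvd_of_coprime ((pairwise_coprime_X_sub_C Function.injective_id).set_pairwise _ |>.imp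
      fun _ _ h => h.pow) ?_
    intro z hz
    rw [Multiset.mem_toFinset] at hz
    refine (pow_dvd_pow _ (hs z hz)).trans (pow_dvd_pow_of_dvd (dvd_iff_isRoot.2 ?_) _)
    simp [hL z hz]
  -- closed sets of roots and their orbits
  let Cl : Finset K → Prop := fun T => ∀ x, (x ^ q ∈ T ↔ x ∈ T) ∧ (x⁻¹ ∈ T ↔ x ∈ T)
  have step : ∀ T : Finset K, Cl T → ∀ ρ ∈ R, ρ ≠ 1 → ρ ∉ T → ∃ (d k : ℕ) (O : Finset K),
      0 < d ∧ 1 ≤ k ∧ (ρ ^ (q ^ d - 1) = 1 ∨ ρ ^ (q ^ d + 1) = 1) ∧ Cl O ∧ Cl (T ∪ O) ∧ ρ ∈ O ∧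
      (∀ z ∈ O, R.count z = k) ∧ (∀ z ∈ O, ∀ N, ρ ^ N = 1 → z ^ N = 1) ∧
      ∑ z ∈ T ∪ O, R.count z = (∑ z ∈ T, R.count z) + 2 * d * k ∧
      (∑ z ∈ T, R.count z) + 2 * d * k ≤ 8 := by
    intro T hT ρ hρ hρ1 hρT
    have hρ0 : ρ ≠ 0 := fun h => hR0 (h ▸ hρ)
    have hself : ρ ≠ ρ⁻¹ := fun h => hρ1 (by
      have h2 : ρ * ρ = 1 := by nth_rewrite 2 [h]; exact mul_inv_cancel₀ hρ0
      rcases mul_self_eq_one_iff.1 h2 with h' | h'
      · exact h'
      · rwa [CharTwo.neg_eq] at h')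
    have hmemR : ∀ i, ρ ^ q ^ i ∈ R := by
      intro i
      induction i with
      | zero => simpa using hρ
      | succ i ih => rw [pow_succ, pow_mul, ← Multiset.one_le_count_iff_mem, cfr, Multiset.one_le_count_iff_mem]; exact ih
    have hpow_inj : ∀ i {x y : K}, x ^ q ^ i = y ^ q ^ i → x = y := by
      intro i
      induction i with
      | zero => intro x y h; simpa using h
      | succ i ih => intro x y h; rw [pow_succ, pow_mul, pow_mul] at h; exact ih (hinj h)
    have hex : ∃ d, 0 < d ∧ (ρ ^ q ^ d = ρ ∨ ρ ^ q ^ d = ρ⁻¹) := by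
      obtain ⟨i, j, hij, h⟩ : ∃ i j, i < j ∧ ρ ^ q ^ i = ρ ^ q ^ j := by
        obtain ⟨i, -, j, -, hij, h⟩ := Finset.exists_ne_map_eq_of_card_lt_of_maps_to
          (s := Finset.range 9) (t := R.toFinset) (f := fun i => ρ ^ q ^ i)
          (by rw [Finset.card_range]; exact lt_of_le_of_lt ((Multiset.toFinset_card_le _).trans hcard) (by norm_num))
          (fun i _ => Multiset.mem_toFinset.2 (hmemR i))
        rcases hij.lt_or_gt with hlt | hlt
        · exact ⟨i, j, hlt, h⟩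
        · exact ⟨j, i, hlt, h.symm⟩
      refine ⟨j - i, by omega, Or.inl (hpow_inj i ?_)⟩
      rw [← pow_mul, ← pow_add, Nat.sub_add_cancel hij.le, h]
    obtain ⟨d, ⟨hd0, hdρ⟩, hmin⟩ : ∃ d, (0 < d ∧ (ρ ^ q ^ d = ρ ∨ ρ ^ q ^ d = ρ⁻¹)) ∧
        ∀ d' < d, ¬ (0 < d' ∧ (ρ ^ q ^ d' = ρ ∨ ρ ^ q ^ d' = ρ⁻¹)) :=
      ⟨Nat.find hex, Nat.find_spec hex, fun d' h => Nat.find_min hex h⟩
    let A : Finset K := (Finset.range d).image fun i => ρ ^ q ^ i
    let B : Finset K := (Finset.range d).image fun i => ρ⁻¹ ^ q ^ i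
    have hne : ∀ i j, i ≤ j → j < d → (ρ ^ q ^ i = ρ ^ q ^ j ∨ ρ⁻¹ ^ q ^ i = ρ ^ q ^ j) → i = j := by
      intro i j hij hj h
      by_contra hne
      have hj' : ρ ^ q ^ j = (ρ ^ q ^ (j - i)) ^ q ^ i := by rw [← pow_mul, ← pow_add, Nat.sub_add_cancel hij]
      rw [hj'] at h
      refine hmin (j - i) (by omega) ⟨by omega, ?_⟩
      rcases h with h | h
      · exact Or.inl (hpow_inj i h).symm
      · exact Or.inr (hpow_inj i h).symm
    have hcardA : A.card = d := by
      rw [Finset.card_image_of_injOn, Finset.card_range]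
      intro i hi j hj h
      simp only [Finset.coe_range, Set.mem_Iio] at hi hj
      rcases le_total i j with hij | hij
      · exact hne i j hij hj (Or.inl h)
      · exact (hne j i hij hi (Or.inl h.symm)).symm
    have hcardB : B.card = d := by
      rw [Finset.card_image_of_injOn, Finset.card_range]
      intro i hi j hj h
      simp only [Finset.coe_range, Set.mem_Iio] at hi hj
      simp only [inv_pow] at h
      replace h := inv_injective h
      rcases le_total i j with hij | hij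
      · exact hne i j hij hj (Or.inl h)
      · exact (hne j i hij hi (Or.inl h.symm)).symm
    have hAB : Disjoint A B := by
      rw [Finset.disjoint_left]
      rintro x hxA hxB
      simp only [A, B, Finset.mem_image, Finset.mem_range] at hxA hxB
      obtain ⟨i, hi, rfl⟩ := hxA
      obtain ⟨j, hj, h⟩ := hxB
      rcases le_total i j with hij | hij
      · obtain rfl := hne i j hij hj (Or.inr (by rw [inv_pow, ← h, inv_pow, inv_inv]))
        exact hself (hpow_inj i h).symm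
      · obtain rfl := hne j i hij hi (Or.inr h)
        exact hself (hpow_inj j h).symm
    have hmemO : ∀ x, x ∈ A ∪ B ↔ ∃ i < d, x = ρ ^ q ^ i ∨ x = ρ⁻¹ ^ q ^ i := by
      intro x
      simp only [A, B, Finset.mem_union, Finset.mem_image, Finset.mem_range]
      constructor
      · rintro (⟨i, hi, rfl⟩ | ⟨i, hi, rfl⟩)
        · exact ⟨i, hi, Or.inl rfl⟩
        · exact ⟨i, hi, Or.inr rfl⟩
      · rintro ⟨i, hi, rfl | rfl⟩
        · exact Or.inl ⟨i, hi, rfl⟩
        · exact Or.inr ⟨i, hi, rfl⟩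
    have hinvO : ∀ x ∈ A ∪ B, x⁻¹ ∈ A ∪ B := by
      intro x hx
      obtain ⟨i, hi, rfl | rfl⟩ := (hmemO x).1 hx
      · exact (hmemO _).2 ⟨i, hi, Or.inr (inv_pow _ _).symm⟩
      · exact (hmemO _).2 ⟨i, hi, Or.inl (by rw [inv_pow, inv_inv])⟩
    have hfrO : ∀ x ∈ A ∪ B, x ^ q ∈ A ∪ B := by
      have key : ∀ i < d, (ρ ^ q ^ i) ^ q ∈ A ∪ B := by
        intro i hi
        rw [← pow_mul, ← pow_succ]
        rcases Nat.lt_or_ge (i + 1) d with h | h
        · exact (hmemO _).2 ⟨i + 1, h, Or.inl rfl⟩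
        · obtain rfl : d = i + 1 := by omega
          rcases hdρ with h' | h' <;> rw [h']
          · exact (hmemO _).2 ⟨0, hd0, Or.inl (by simp)⟩
          · exact (hmemO _).2 ⟨0, hd0, Or.inr (by simp)⟩
      intro x hx
      obtain ⟨i, hi, rfl | rfl⟩ := (hmemO x).1 hx
      · exact key i hi
      · rw [inv_pow, inv_pow]
        exact hinvO _ (key i hi)
    have hClO : Cl (A ∪ B) := by
      refine fun x => ⟨⟨fun h => ?_, hfrO x⟩, ⟨fun h => inv_inv x ▸ hinvO _ h, hinvO x⟩⟩
      obtain ⟨y, hy, hyx⟩ : ∃ y ∈ A ∪ B, y ^ q = x ^ q := by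
        have := Finset.surj_on_of_inj_on_of_card_le (fun (y : K) (_ : y ∈ A ∪ B) => y ^ q)
          (fun y hy => hfrO y hy) (fun y₁ y₂ _ _ h => hinj h) le_rfl (x ^ q) h
        obtain ⟨y, hy, hyx⟩ := this
        exact ⟨y, hy, hyx.symm⟩
      rwa [← hinj hyx]
    have hcfr : ∀ i, R.count (ρ ^ q ^ i) = R.count ρ := by
      intro i
      induction i with
      | zero => simp
      | succ i ih => rw [pow_succ, pow_mul, cfr, ih]
    have hcount : ∀ z ∈ A ∪ B, R.count z = R.count ρ := by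
      intro z hz
      obtain ⟨i, -, rfl | rfl⟩ := (hmemO z).1 hz
      · exact hcfr i
      · rw [inv_pow, cinv, hcfr]
    have hTO : Disjoint T (A ∪ B) := by
      rw [Finset.disjoint_left]
      intro x hxT hx
      obtain ⟨i, -, rfl | rfl⟩ := (hmemO x).1 hx
      all_goals
        refine hρT ?_
        clear hx
        revert hxT
      · induction i with
        | zero => simp
        | succ i ih => rw [pow_succ, pow_mul, (hT _).1]; exact ih
      · rw [inv_pow, (hT _).2]
        induction i with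
        | zero => simp
        | succ i ih => rw [pow_succ, pow_mul, (hT _).1]; exact ih
    have hsum : ∑ z ∈ T ∪ (A ∪ B), R.count z = (∑ z ∈ T, R.count z) + 2 * d * R.count ρ := by
      rw [Finset.sum_union hTO, Finset.sum_congr rfl hcount, Finset.sum_const,
        Finset.card_union_of_disjoint hAB, hcardA, hcardB, smul_eq_mul, two_mul]
    refine ⟨d, R.count ρ, A ∪ B, hd0, Multiset.one_le_count_iff_mem.2 hρ, ?_, hClO, fun x => ?_,
      (hmemO ρ).2 ⟨0, hd0, Or.inl (by simp)⟩, hcount, ?_, hsum, hsum ▸ sum_le _⟩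
    · have h1 : 1 ≤ q ^ d := Nat.one_le_pow _ _ (by omega)
      rcases hdρ with h | h
      · exact Or.inl (by rw [pow_sub₀ _ hρ0 h1, h, pow_one, mul_inv_cancel₀ hρ0])
      · exact Or.inr (by rw [pow_succ, h, inv_mul_cancel₀ hρ0])
    · simp only [Finset.mem_union, (hT x).1, (hT x).2]
      have h1 := (hClO x).1
      have h2 := (hClO x).2
      simp only [Finset.mem_union] at h1 h2
      exact ⟨or_congr Iff.rfl h1, or_congr Iff.rfl h2⟩
    · intro z hz N hN
      obtain ⟨i, -, rfl | rfl⟩ := (hmemO z).1 hz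
      · rw [← pow_mul, mul_comm, pow_mul, hN, one_pow]
      · rw [← pow_mul, mul_comm, pow_mul, inv_pow, hN, inv_one, one_pow]
  -- the point one
  have hT1 : Cl {1} := fun x => ⟨by
    simp only [Finset.mem_singleton]
    exact ⟨fun h => hinj (by rw [h, one_pow]), fun h => by rw [h, one_pow]⟩, by simp⟩
  obtain ⟨a, ha⟩ : ∃ a, a = R.count 1 := ⟨_, rfl⟩
  have hs1 : ∑ z ∈ ({1} : Finset K), R.count z = a := by rw [Finset.sum_singleton, ha]
  have ha8 : a ≤ 8 := hs1 ▸ sum_le _
  have first : ∀ ρ ∈ R, ρ ≠ 1 → ∃ (d k : ℕ) (O : Finset K),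
      0 < d ∧ 1 ≤ k ∧ (ρ ^ (q ^ d - 1) = 1 ∨ ρ ^ (q ^ d + 1) = 1) ∧ Cl ({1} ∪ O) ∧ ρ ∈ O ∧
      (∀ z ∈ O, R.count z = k) ∧ (∀ z ∈ O, ∀ N, ρ ^ N = 1 → z ^ N = 1) ∧
      ∑ z ∈ {1} ∪ O, R.count z = a + 2 * d * k ∧ a + 2 * d * k ≤ 8 := fun ρ hρ hρ1 => by
    obtain ⟨d, k, O, h1, h2, h3, -, h4, h5, h6, h7, h8, h9⟩ := step _ hT1 ρ hρ hρ1 (by simpa using hρ1)
    exact ⟨d, k, O, h1, h2, h3, h4, h5, h6, h7, hs1 ▸ h8, hs1 ▸ h9⟩
  -- arithmetic of the exponents
  have up : ∀ {z : K} {m N : ℕ}, z ^ m = 1 → m ∣ N → z ^ N = 1 := fun h hd => by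
    obtain ⟨c, rfl⟩ := hd
    rw [pow_mul, h, one_pow]
  have q2 : q ^ 2 - 1 = (q - 1) * (q + 1) := by rw [mul_comm, ← Nat.sq_sub_sq, one_pow]
  have q4 : q ^ 4 - 1 = (q ^ 2 - 1) * (q ^ 2 + 1) := by
    rw [mul_comm, ← Nat.sq_sub_sq, one_pow, ← pow_mul]
  have q3m : q - 1 ∣ q ^ 3 - 1 := Nat.sub_one_dvd_pow_sub_one q 3
  have q3p : q + 1 ∣ q ^ 3 + 1 := Odd.nat_add_dvd_pow_add_pow q 1 (by decide : Odd 3) |>.trans (by rw [one_pow])
  by_cases hbig : ∃ ρ ∈ R, ρ ≠ 1 ∧ ρ ^ (q ^ 2 - 1) ≠ 1 ∧ ρ ^ (q ^ 2 + 1) ≠ 1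
  · obtain ⟨ρ, hρ, hρ1, hm2, hp2⟩ := hbig
    obtain ⟨d, k, O, hd0, hk, hexp, hCl, hρO, hcnt, hpw, hsum, hle⟩ := first ρ hρ hρ1
    have hd3 : 3 ≤ d := by
      by_contra h
      obtain rfl | rfl : d = 1 ∨ d = 2 := by omega
      · rw [pow_one] at hexp
        exact hm2 (hexp.elim (fun h => up h (q2 ▸ dvd_mul_right _ _)) (fun h => up h (q2 ▸ dvd_mul_left _ _)))
      · exact hexp.elim hm2 hp2
    obtain rfl : k = 1 := by
      by_contra h
      have : 2 * 3 * 2 ≤ 2 * d * k := Nat.mul_le_mul (by omega) (by omega)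
      omega
    by_cases hout : ∃ z ∈ R, z ∉ ({1} : Finset K) ∪ O
    · obtain ⟨z, hz, hzT⟩ := hout
      obtain ⟨d₁, k₁, O₁, hd1, hk1, -, -, -, -, -, -, -, hle1⟩ := step _ hCl z hz (fun h => hzT (by simp [h])) hzT
      rw [hsum] at hle1
      have h4 : 1 ≤ d₁ * k₁ := Nat.one_le_iff_ne_zero.2 (by positivity)
      have e3 : d = 3 := by nlinarith
      subst e3
      obtain rfl : a = 0 := by nlinarith
      have hall : ∀ w ∈ R, R.count w ≤ 1 ∧ (w ∈ O ∨ w ^ (q - 1) = 1 ∨ w ^ (q + 1) = 1) := by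
        intro w hw
        by_cases hwT : w ∈ ({1} : Finset K) ∪ O
        · rcases Finset.mem_union.1 hwT with h | h
          · rw [Finset.mem_singleton] at h
            subst h
            exact absurd hw (by rw [← Multiset.count_eq_zero, ← ha])
          · exact ⟨(hcnt w h).le, Or.inl h⟩
        · obtain ⟨d₂, k₂, O₂, hd2, hk2, hexp2, -, -, hw2, hcnt2, -, -, hle2⟩ :=
            step _ hCl w hw (fun h => hwT (by simp [h])) hwT
          rw [hsum] at hle2
          obtain rfl : d₂ = 1 := by nlinarith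
          obtain rfl : k₂ = 1 := by nlinarith
          exact ⟨(hcnt2 w hw2).le, Or.inr (by simpa using hexp2)⟩
      rcases hexp with h | h
      · refine fin 0 ((q ^ 3 - 1) * (q + 1)) (fun w hw => ?_) (fun w hw => (hall w hw).1) (by simp [lst])
        rcases (hall w hw).2 with h' | h' | h'
        · exact up (hpw w h' _ h) (dvd_mul_right _ _)
        · exact up h' (q3m.trans (dvd_mul_right _ _))
        · exact up h' (dvd_mul_left _ _)
      · refine fin 0 ((q ^ 3 + 1) * (q - 1)) (fun w hw => ?_) (fun w hw => (hall w hw).1) (by simp [lst])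
        rcases (hall w hw).2 with h' | h' | h'
        · exact up (hpw w h' _ h) (dvd_mul_right _ _)
        · exact up h' (dvd_mul_left _ _)
        · exact up h' (q3p.trans (dvd_mul_right _ _))
    · push Not at hout
      have hall : ∀ w ∈ R, w = 1 ∨ w ∈ O := fun w hw => by simpa using Finset.mem_union.1 (hout w hw)
      obtain rfl | rfl : d = 3 ∨ d = 4 := by omega
      · have hc : ∀ w ∈ R, R.count w ≤ 2 ^ 1 := fun w hw => by
          rcases hall w hw with rfl | h
          · omega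
          · rw [hcnt w h]; norm_num
        rcases hexp with h | h
        · exact fin 1 (q ^ 3 - 1) (fun w hw => (hall w hw).elim (fun e => by rw [e, one_pow]) (fun e => hpw w e _ h))
            hc (by simp [lst])
        · exact fin 1 (q ^ 3 + 1) (fun w hw => (hall w hw).elim (fun e => by rw [e, one_pow]) (fun e => hpw w e _ h))
            hc (by simp [lst])
      · have hc : ∀ w ∈ R, R.count w ≤ 2 ^ 0 := fun w hw => by
          rcases hall w hw with rfl | h
          · omega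
          · rw [hcnt w h]; norm_num
        rcases hexp with h | h
        · exact fin 0 (q ^ 4 - 1) (fun w hw => (hall w hw).elim (fun e => by rw [e, one_pow]) (fun e => hpw w e _ h))
            hc (by simp [lst])
        · exact fin 0 (q ^ 4 + 1) (fun w hw => (hall w hw).elim (fun e => by rw [e, one_pow]) (fun e => hpw w e _ h))
            hc (by simp [lst])
  push Not at hbig
  replace hbig : ∀ z ∈ R, z ^ (q ^ 2 - 1) = 1 ∨ z ^ (q ^ 2 + 1) = 1 := fun z hz => by
    rcases eq_or_ne z 1 with rfl | h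
    · exact Or.inl (one_pow _)
    · by_cases h' : z ^ (q ^ 2 - 1) = 1
      · exact Or.inl h'
      · exact Or.inr (hbig z hz h h')
  have hq21 : ∀ (z : K) (d : ℕ), d = 1 → (z ^ (q ^ d - 1) = 1 ∨ z ^ (q ^ d + 1) = 1) → z ^ (q ^ 2 - 1) = 1 := by
    intro z d hd h
    subst hd
    rw [pow_one] at h
    exact h.elim (fun h => up h (q2 ▸ dvd_mul_right _ _)) (fun h => up h (q2 ▸ dvd_mul_left _ _))
  have hk4 : ∀ z ∈ R, z ≠ 1 → R.count z ≤ 4 := fun z hz hz1 => by
    obtain ⟨d, k, O, hd0, hk, -, -, hzO, hcnt, -, -, hle⟩ := first z hz hz1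
    rw [hcnt z hzO]
    have : 2 * 1 * k ≤ 2 * d * k := Nat.mul_le_mul_right _ (by omega)
    omega
  by_cases hB : ∀ z ∈ R, z ^ (q ^ 2 - 1) = 1
  · by_cases hc4 : a ≤ 4
    · refine fin 2 (q ^ 2 - 1) hB (fun z hz => ?_) (by simp [lst])
      rcases eq_or_ne z 1 with rfl | h
      · omega
      · exact hk4 z hz h
    · have hc : ∀ z ∈ R, R.count z ≤ 2 ^ 3 := fun z hz => by
        rcases eq_or_ne z 1 with rfl | h
        · omega
        · have := hk4 z hz h; omega
      by_cases hout : ∃ z ∈ R, z ≠ 1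
      · obtain ⟨z, hz, hz1⟩ := hout
        obtain ⟨d, k, O, hd0, hk, hexp, hCl, hzO, hcnt, hpw, hsum, hle⟩ := first z hz hz1
        have hdk : 1 ≤ d * k := Nat.one_le_iff_ne_zero.2 (by positivity)
        obtain rfl : d = 1 := by nlinarith
        obtain rfl : k = 1 := by nlinarith
        have hall : ∀ w ∈ R, w = 1 ∨ w ∈ O := fun w hw => by
          by_contra h
          push Not at h
          obtain ⟨d₂, k₂, O₂, hd2, hk2, -, -, -, -, -, -, -, hle2⟩ :=
            step _ hCl w hw h.1 (by simp [h.1, h.2])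
          rw [hsum] at hle2
          have : 1 ≤ d₂ * k₂ := Nat.one_le_iff_ne_zero.2 (by positivity)
          nlinarith
        rw [pow_one] at hexp
        rcases hexp with h | h
        · exact fin 3 (q - 1) (fun w hw => (hall w hw).elim (fun e => by rw [e, one_pow]) (fun e => hpw w e _ h))
            hc (by simp [lst])
        · exact fin 3 (q + 1) (fun w hw => (hall w hw).elim (fun e => by rw [e, one_pow]) (fun e => hpw w e _ h))
            hc (by simp [lst])
      · push Not at hout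
        exact fin 3 (q - 1) (fun w hw => by rw [hout w hw, one_pow]) hc (by simp [lst])
  push Not at hB
  obtain ⟨ρ, hρ, hρm⟩ := hB
  have hρ1 : ρ ≠ 1 := fun h => hρm (by rw [h, one_pow])
  have hρp : ρ ^ (q ^ 2 + 1) = 1 := (hbig ρ hρ).resolve_left hρm
  obtain ⟨d, k, O, hd0, hk, hexp, hCl, hρO, hcnt, hpw, hsum, hle⟩ := first ρ hρ hρ1
  have hd2 : 2 ≤ d := by
    by_contra h
    exact hρm (hq21 ρ d (by omega) hexp)
  have hk2 : 2 * 2 * k ≤ 2 * d * k := Nat.mul_le_mul_right _ (by omega)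
  by_cases hall : ∀ z ∈ R, z ^ (q ^ 2 + 1) = 1
  · refine fin 2 (q ^ 2 + 1) hall (fun z hz => ?_) (by simp [lst])
    rcases eq_or_ne z 1 with rfl | h
    · omega
    · exact hk4 z hz h
  push Not at hall
  obtain ⟨z, hz, hzp⟩ := hall
  have hzm : z ^ (q ^ 2 - 1) = 1 := (hbig z hz).resolve_right hzp
  have hzT : z ∉ ({1} : Finset K) ∪ O := by
    rw [Finset.mem_union, Finset.mem_singleton]
    rintro (h | h)
    · exact hzp (by rw [h, one_pow])
    · exact hzp (hpw z h _ hρp)
  obtain ⟨d₁, k₁, O₁, hd1, hk1, hexp1, -, hCl1, hzO1, hcnt1, hpw1, hsum1, hle1⟩ :=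
    step _ hCl z hz (fun h => hzp (by rw [h, one_pow])) hzT
  rw [hsum] at hle1 hsum1
  have h11 : 1 ≤ d₁ * k₁ := Nat.one_le_iff_ne_zero.2 (by positivity)
  obtain rfl : k = 1 := by nlinarith
  by_cases hmult : ∀ w ∈ R, R.count w ≤ 1
  · refine fin 0 (q ^ 4 - 1) (fun w hw => ?_) hmult (by simp [lst])
    rcases hbig w hw with h | h
    · exact up h (q4 ▸ dvd_mul_right _ _)
    · exact up h (q4 ▸ dvd_mul_left _ _)
  push Not at hmult
  obtain ⟨w, hw, hw2⟩ := hmult
  -- the two orbits exhaust the roots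
  have key : ∀ (z : K) (d₁ k₁ : ℕ) (O₁ : Finset K), d₁ = 1 → (z ^ (q ^ d₁ - 1) = 1 ∨ z ^ (q ^ d₁ + 1) = 1) →
      (∀ x ∈ O₁, ∀ N, z ^ N = 1 → x ^ N = 1) → (∀ x ∈ O₁, R.count x = k₁) → k₁ ≤ 2 → a ≤ 2 →
      (∀ x ∈ R, x = 1 ∨ x ∈ O ∨ x ∈ O₁) → ∃ N ∈ lst q, P ∣ X ^ N - 1 := by
    intro z d₁ k₁ O₁ hd hexp hpw1 hcnt1 hk1 ha2 hR1
    subst hd
    rw [pow_one] at hexp
    have hc : ∀ x ∈ R, R.count x ≤ 2 ^ 1 := fun x hx => by
      rcases hR1 x hx with rfl | h | h
      · omega
      · rw [hcnt x h]; norm_num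
      · rw [hcnt1 x h]; omega
    rcases hexp with h | h
    · refine fin 1 ((q ^ 2 + 1) * (q - 1)) (fun x hx => ?_) hc (by simp [lst])
      rcases hR1 x hx with rfl | h' | h'
      · exact one_pow _
      · exact up (hpw x h' _ hρp) (dvd_mul_right _ _)
      · exact up (hpw1 x h' _ h) (dvd_mul_left _ _)
    · refine fin 1 ((q ^ 2 + 1) * (q + 1)) (fun x hx => ?_) hc (by simp [lst])
      rcases hR1 x hx with rfl | h' | h'
      · exact one_pow _
      · exact up (hpw x h' _ hρp) (dvd_mul_right _ _)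
      · exact up (hpw1 x h' _ h) (dvd_mul_left _ _)
  have exhaust : a + 2 * d * 1 + 2 * d₁ * k₁ = 8 → ∀ x ∈ R, x = 1 ∨ x ∈ O ∨ x ∈ O₁ := by
    intro h8 x hx
    by_contra h
    push Not at h
    obtain ⟨d₂, k₂, -, hd2', hk2', -, -, -, -, -, -, -, hle2⟩ :=
      step _ hCl1 x hx h.1 (by simp [h.1, h.2.1, h.2.2])
    rw [hsum1] at hle2
    have : 1 ≤ d₂ * k₂ := Nat.one_le_iff_ne_zero.2 (by positivity)
    nlinarith
  rcases eq_or_ne w 1 with rfl | hw1
  · obtain rfl : d₁ = 1 := by nlinarith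
    obtain rfl : k₁ = 1 := by nlinarith
    exact key z 1 1 O₁ rfl hexp1 hpw1 hcnt1 (by norm_num) (by nlinarith) (exhaust (by nlinarith))
  · have hwT : w ∉ ({1} : Finset K) ∪ O := by
      rw [Finset.mem_union, Finset.mem_singleton]
      rintro (h | h)
      · exact hw1 h
      · have := hcnt w h; omega
    by_cases hwz : w ∈ O₁
    · have h2 : 2 ≤ k₁ := by have := hcnt1 w hwz; omega
      obtain rfl : d₁ = 1 := by nlinarith
      exact key z 1 k₁ O₁ rfl hexp1 hpw1 hcnt1 (by nlinarith) (by nlinarith) (exhaust (by nlinarith))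
    · exfalso
      obtain ⟨d₂, k₂, O₂, hd2', -, -, -, -, hwO2, hcnt2, -, -, hle2⟩ :=
        step _ hCl1 w hw hw1 (by
          simp only [Finset.mem_union] at hwT ⊢
          exact not_or.2 ⟨hwT, hwz⟩)
      rw [hsum1] at hle2
      have h2 : 2 ≤ k₂ := by have := hcnt2 w hwO2; omega
      nlinarith

end CfsgLib.SpFourTwins.Eight
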