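/-
Small orthogonal spaces in characteristic two with tori, reflections and regular unipotent isometries.
-/
import Cfsg.Agent.Lib.Classical.Elusive.FixPoint
import Cfsg.Agent.Lib.Classical.Elusive.SpQuad
import Cfsg.Agent.Lib.Classical22.OrthTypeSigns
import Cfsg.Agent.Lib.KnownSimple.Spectra.OddConstruct

set_option autoImplicit false
set_option linter.style.haveILetI false

namespace CfsgLib.SpFourTwins.Eight

open Module CfsgLib.Classical CfsgLib.Classical.QuadSign CfsgLib.Classical22.OrthType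

universe u

/-- A nondegenerate quadratic space with an isometry. -/
structure El (F : Type u) [Field F] where
  S : Space F
  g : qAut S.form

variable {F : Type u} [Field F]

/-- The isometry minus one. -/
def El.N (A : El F) : Module.End F A.S.carrier := A.g.1.toLinearMap - LinearMap.id

/-- The isometry as an endomorphism. -/
def El.e (A : El F) : Module.End F A.S.carrier := A.g.1.toLinearMap

/-- The rank of the isometry minus one. -/
noncomputable def El.rk (A : El F) : ℕ := qRank A.S.form A.g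

lemma El.rk_eq (A : El F) : A.rk = finrank F (LinearMap.range A.N) := rfl

/-- The sum of the powers of the isometry over its order is not zero. -/
def El.Norm (A : El F) : Prop :=
  ∃ v, (∑ i ∈ Finset.range (orderOf A.g), A.e ^ i) v ≠ 0

lemma El.coe_pow (A : El F) (n : ℕ) : ((A.g ^ n).1.toLinearMap : Module.End F A.S.carrier) = A.e ^ n := by
  induction n with
  | zero => rfl
  | succ n ih => rw [pow_succ', pow_succ', ← ih]; rfl

lemma El.pow_eq_one_iff (A : El F) (n : ℕ) : A.g ^ n = 1 ↔ A.e ^ n = 1 := by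
  rw [← A.coe_pow]
  constructor
  · intro h; rw [h]; rfl
  · intro h
    exact qAut_ext fun v => LinearMap.congr_fun h v

lemma sum_range_mul {R : Type*} [Semiring R] (g : R) {a : ℕ} (h : g ^ a = 1) (t : ℕ) :
    ∑ i ∈ Finset.range (a * t), g ^ i = t • ∑ i ∈ Finset.range a, g ^ i := by
  induction t with
  | zero => simp
  | succ t ih =>
    rw [Nat.mul_succ, Finset.sum_range_add, ih, succ_nsmul]
    congr 1
    refine Finset.sum_congr rfl fun i _ => ?_
    rw [pow_add, pow_mul, h, one_pow, one_mul]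

section Two

variable [CharP F 2]

lemma two_end {V : Type*} [AddCommGroup V] [Module F V] : (2 : Module.End F V) = 0 :=
  LinearMap.ext fun v => by
    rw [show (2 : Module.End F V) = 1 + 1 by norm_num, LinearMap.add_apply, Module.End.one_apply,
      LinearMap.zero_apply, ← two_smul F v, CharTwo.two_eq_zero, zero_smul]

lemma sub_one_sq {V : Type*} [AddCommGroup V] [Module F V] (g : Module.End F V) : (g - 1) ^ 2 = g ^ 2 - 1 := by
  have h : (g - 1) ^ 2 = g ^ 2 - 1 - 2 * (g - 1) := by noncomm_ring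
  rw [h, two_end, zero_mul, sub_zero]

lemma sub_one_pow_two_pow {V : Type*} [AddCommGroup V] [Module F V] (g : Module.End F V) (s : ℕ) :
    (g - 1) ^ 2 ^ s = g ^ 2 ^ s - 1 := by
  induction s with
  | zero => simp
  | succ s ih => rw [pow_succ, pow_mul, pow_mul, ih, sub_one_sq]

lemma El.e_pow (A : El F) (s : ℕ) : A.e ^ 2 ^ s = A.N ^ 2 ^ s + 1 := by
  rw [show A.N = A.e - 1 from rfl, sub_one_pow_two_pow, sub_add_cancel]

lemma El.orderOf_two_pow (A : El F) (s : ℕ) (h : A.N ^ 2 ^ (s + 1) = 0) (h' : A.N ^ 2 ^ s ≠ 0) :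
    orderOf A.g = 2 ^ (s + 1) := by
  haveI : Fact (Nat.Prime 2) := ⟨Nat.prime_two⟩
  refine orderOf_eq_prime_pow ?_ ?_
  · rw [A.pow_eq_one_iff, A.e_pow]
    exact fun h2 => h' (by simpa using h2)
  · rw [A.pow_eq_one_iff, A.e_pow, h, zero_add]

lemma El.N_pow_three (A : El F) : A.N ^ 3 = ∑ i ∈ Finset.range 4, A.e ^ i := by
  have h : A.N ^ 3 = (∑ i ∈ Finset.range 4, A.e ^ i) - 2 * (2 * A.e ^ 2 - A.e + 1) := by
    rw [show A.N = A.e - 1 from rfl]
    simp only [Finset.sum_range_succ, Finset.sum_range_zero]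
    noncomm_ring
  rw [h, two_end, zero_mul, sub_zero]


end Two

/-! ### Sums -/

/-- The orthogonal sum. -/
@[reducible] def El.sum (A B : El F) : El F where
  S := { carrier := A.S.carrier × B.S.carrier, form := A.S.form.prod B.S.form
         nondeg := CfsgLib.Spectra.polarNondeg_prod A.S.nondeg B.S.nondeg }
  g := CfsgLib.Spectra.qAutProd A.S.form B.S.form (A.g, B.g)

lemma El.orderOf_sum (A B : El F) : orderOf (A.sum B).g = (orderOf A.g).lcm (orderOf B.g) :=
  CfsgLib.Spectra.orderOf_qAutProd _ _ _ _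

lemma finrank_sub_prod {V W : Type*} [AddCommGroup V] [Module F V] [AddCommGroup W] [Module F W]
    [FiniteDimensional F V] [FiniteDimensional F W] (p : Submodule F V) (p' : Submodule F W) :
    finrank F (p.prod p') = finrank F p + finrank F p' := by
  let e : (p.prod p') ≃ₗ[F] p × p' :=
    { toFun := fun x => (⟨x.1.1, x.2.1⟩, ⟨x.1.2, x.2.2⟩)
      map_add' := fun _ _ => rfl
      map_smul' := fun _ _ => rfl
      invFun := fun x => ⟨(x.1.1, x.2.1), x.1.2, x.2.2⟩
      left_inv := fun _ => rfl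
      right_inv := fun _ => rfl }
  rw [e.finrank_eq, Module.finrank_prod]

/-- Conjugation does not change the rank of `g - 1`. -/
lemma qRank_congr {V W : Type*} [AddCommGroup V] [Module F V] [AddCommGroup W] [Module F W] {Q : QuadraticForm F V}
    {R : QuadraticForm F W} (e : V ≃ₗ[F] W) (he : ∀ v, R (e v) = Q v) (g : qAut Q) :
    qRank R (qAutCongr e he g) = qRank Q g := by
  have h : LinearMap.range ((qAutCongr e he g).1.toLinearMap - LinearMap.id) =
      (LinearMap.range (g.1.toLinearMap - LinearMap.id)).map e.toLinearMap := by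
    ext w
    constructor
    · rintro ⟨x, rfl⟩
      refine ⟨_, ⟨e.symm x, rfl⟩, ?_⟩
      show e (g.1 (e.symm x) - e.symm x) = e (g.1 (e.symm x)) - x
      rw [map_sub, e.apply_symm_apply]
    · rintro ⟨_, ⟨x, rfl⟩, rfl⟩
      refine ⟨e x, ?_⟩
      show e (g.1 (e.symm (e x))) - e x = e (g.1 x - x)
      rw [map_sub, e.symm_apply_apply]
  unfold qRank
  rw [h, LinearEquiv.finrank_map_eq]

lemma El.rk_sum (A B : El F) : (A.sum B).rk = A.rk + B.rk := by
  rw [El.rk_eq, El.rk_eq, El.rk_eq,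
    show (A.sum B).N = LinearMap.prodMap A.N B.N from LinearMap.ext fun v => rfl, LinearMap.range_prodMap,
    finrank_sub_prod]

lemma El.norm_sum [CharP F 2] (A B : El F) (hA : A.Norm) (hB : Odd (orderOf B.g))
    (hc : (orderOf A.g).Coprime (orderOf B.g)) : (A.sum B).Norm := by
  obtain ⟨v, hv⟩ := hA
  obtain ⟨r, hr⟩ := hB
  refine ⟨(v, 0), fun h => hv ?_⟩
  rw [El.orderOf_sum, hc.lcm_eq_mul] at h
  have hpow : ∀ i, ((A.sum B).e ^ i) (v, 0) = ((A.e ^ i) v, 0) := by
    intro i
    induction i with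
    | zero => rfl
    | succ i ih =>
      rw [pow_succ', Module.End.mul_apply, ih, pow_succ', Module.End.mul_apply]
      exact Prod.ext rfl (map_zero B.g.1)
  rw [LinearMap.sum_apply] at h
  have h1 := congrArg Prod.fst h
  simp only [hpow, Prod.fst_sum] at h1
  rw [← LinearMap.sum_apply, sum_range_mul _ ((A.pow_eq_one_iff _).1 (pow_orderOf_eq_one _)),
    LinearMap.smul_apply, hr, add_nsmul, one_nsmul, mul_nsmul, two_nsmul, ← two_smul F, CharTwo.two_eq_zero,
    zero_smul, smul_zero, zero_add] at h1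
  exact h1

/-- The identity isometry of a space. -/
@[reducible] def El.triv (S : Space F) : El F where
  S := S
  g := 1

lemma El.rk_triv (S : Space F) : (El.triv S).rk = 0 := qRank_one _

lemma El.norm_triv (S : Space F) (h : 0 < finrank F S.carrier) : (El.triv S).Norm := by
  haveI := Module.nontrivial_of_finrank_pos h
  obtain ⟨v, hv⟩ := exists_ne (0 : S.carrier)
  refine ⟨v, ?_⟩
  simp [El.e, hv]

/-- The sign and dimension of the space. -/
def El.Is [Fintype F] (A : El F) (k : ℕ) (ε : ℤ) : Prop := finrank F A.S.carrier = 2 * k ∧ Sg A.S.form ε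

lemma El.Is.sum [Fintype F] {A B : El F} {k l : ℕ} {ε ε' : ℤ} (hA : A.Is k ε) (hB : B.Is l ε') :
    (A.sum B).Is (k + l) (ε * ε') := by
  refine ⟨?_, hA.2.prod hB.2⟩
  show finrank F (A.S.carrier × B.S.carrier) = _
  rw [Module.finrank_prod, hA.1, hB.1]
  ring

/-! ### Tori -/

variable [Fintype F] [CharP F 2]

theorem exists_torus_plus {m : ℕ} (hm : 1 ≤ m) : ∃ A : El F, A.Is m 1 ∧
    orderOf A.g = Fintype.card F ^ m - 1 ∧ Even A.rk := by
  classical
  haveI : Fact (Nat.Prime 2) := ⟨Nat.prime_two⟩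
  haveI : NeZero m := ⟨by omega⟩
  let L := FiniteField.Extension F 2 m
  haveI : Fintype L := Fintype.ofFinite L
  have hfr : finrank F L = m := FiniteField.finrank_extension F 2 m
  have hL : Fintype.card L = Fintype.card F ^ m := by rw [← hfr, ← Module.card_eq_pow_finrank]
  obtain ⟨z, hz⟩ := IsCyclic.exists_generator (α := Lˣ)
  have hord : orderOf z = Fintype.card F ^ m - 1 := by
    rw [orderOf_eq_card_of_forall_mem_zpowers hz, Nat.card_eq_fintype_card, Fintype.card_units, hL]
  let Q : QuadraticForm F (L × L) := LinearMap.BilinMap.toQuadraticMap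
    ((Algebra.traceForm F L).compl₁₂ (LinearMap.fst F L L) (LinearMap.snd F L L))
  have hQ : ∀ p, Q p = Algebra.trace F L (p.1 * p.2) := fun p => rfl
  have hpol : ∀ p r, QuadraticMap.polar Q p r = Algebra.trace F L (p.1 * r.2 + r.1 * p.2) := fun p r => by
    simp only [QuadraticMap.polar, hQ, ← map_sub, Prod.fst_add, Prod.snd_add]
    congr 1
    ring
  have hnd : PolarNondeg Q := fun p hp => by
    have h1 : ∀ x, Algebra.trace F L (p.2 * x) = 0 := fun x => by
      simpa [hpol, mul_comm] using hp (x, 0)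
    have h2 : ∀ y, Algebra.trace F L (p.1 * y) = 0 := fun y => by
      simpa [hpol] using hp (0, y)
    exact Prod.ext ((traceForm_nondegenerate F L).1 _ h2) ((traceForm_nondegenerate F L).1 _ h1)
  let e : (L × L) ≃ₗ[F] (L × L) := (LinearEquiv.smulOfUnit z).prodCongr (LinearEquiv.smulOfUnit z⁻¹) |>.restrictScalars F
  have he : ∀ p, e p = ((z : L) * p.1, (↑z⁻¹ : L) * p.2) := fun p => rfl
  let g : qAut Q := ⟨e, fun p => by
    rw [hQ, hQ, he]
    show Algebra.trace F L ((z : L) * p.1 * ((↑z⁻¹ : L) * p.2)) = _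
    rw [mul_mul_mul_comm, Units.mul_inv, one_mul]⟩
  have hpow : ∀ n p, (g ^ n).1 p = (((z ^ n : Lˣ) : L) * p.1, ((z ^ n)⁻¹ : Lˣ) * p.2) := by
    intro n
    induction n with
    | zero => intro p; simp
    | succ n ih =>
      intro p
      rw [pow_succ', qAut_mul_apply, ih]
      show e _ = _
      rw [he, pow_succ', mul_inv_rev, Units.val_mul, Units.val_mul]
      ext <;> ring
  let b : (L × L) ≃ₗ[F] (Fin (2 * m) → F) :=
    (Module.finBasisOfFinrankEq F (L × L) (by rw [Module.finrank_prod, hfr, two_mul])).equivFun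
  let Q' : QuadraticForm F (Fin (2 * m) → F) := Q.comp b.symm.toLinearMap
  have hb : ∀ p, Q' (b p) = Q p := fun p => by simp [Q']
  refine ⟨⟨⟨Fin (2 * m) → F, Q', polarNondeg_congr b hb hnd⟩, qAutCongr b hb g⟩, ⟨Module.finrank_fin_fun F, ?_⟩,
    (MulEquiv.orderOf_eq _ g).trans ?_, ?_⟩
  · refine (sg_one_iff (polarNondeg_congr b hb hnd) ?_).2
      ⟨((⊤ : Submodule F L).prod (⊥ : Submodule F L)).map b.toLinearMap, ?_, ?_⟩
    · rw [Module.finrank_fin_fun]; exact even_two_mul m
    · rintro _ ⟨u, hu, rfl⟩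
      rw [LinearEquiv.coe_coe, hb, hQ, show u.2 = 0 from (Submodule.mem_prod.1 hu).2, mul_zero, map_zero]
    · rw [LinearEquiv.finrank_map_eq, finrank_sub_prod, finrank_top, finrank_bot, hfr,
        Module.finrank_fin_fun]
      omega
  · rw [← hord]
    refine orderOf_eq_orderOf_iff.2 fun n => ?_
    constructor
    · intro h
      have := hpow n (1, 1)
      rw [h] at this
      exact Units.ext (by simpa using (congrArg Prod.fst this).symm)
    · intro h
      exact qAut_ext fun p => by rw [hpow, h]; simp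
  · show Even (qRank Q' (qAutCongr b hb g))
    rw [qRank_congr]
    by_cases hz1 : z = 1
    · rw [show g = 1 from qAut_ext fun p => by
        show e p = p
        rw [he, hz1]; simp, qRank_one]
      exact ⟨0, rfl⟩
    · unfold qRank
      rw [LinearMap.range_eq_top.2, finrank_top, Module.finrank_prod, hfr]
      · exact ⟨m, rfl⟩
      · refine LinearMap.surjective_of_injective ((injective_iff_map_eq_zero _).2 fun p hp => ?_)
        have hp' : e p = p := sub_eq_zero.1 hp
        rw [he] at hp'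
        have hne : ((z : L) ≠ 1) := fun h => hz1 (Units.ext (by simpa using h))
        have hne' : ((↑z⁻¹ : L) ≠ 1) := fun h => hz1 (by
          have : z⁻¹ = 1 := Units.ext (by simpa using h)
          simpa using this)
        exact Prod.ext ((mul_left_eq_self₀.1 (congrArg Prod.fst hp')).resolve_left hne)
          ((mul_left_eq_self₀.1 (congrArg Prod.snd hp')).resolve_left hne')

/-- A union of cosets has cardinality divisible by the order of the subgroup. -/
lemma card_dvd_of_stable {G : Type*} [Group G] [Finite G] (C : Subgroup G) (S : Set G)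
    (h : ∀ c ∈ C, ∀ s ∈ S, s * c ∈ S) : Nat.card C ∣ Nat.card S := by
  have hS : S = (QuotientGroup.mk : G → G ⧸ C) ⁻¹' ((QuotientGroup.mk : G → G ⧸ C) '' S) := by
    refine Set.Subset.antisymm (Set.subset_preimage_image _ _) fun x => ?_
    rintro ⟨s, hs, hsx⟩
    rw [QuotientGroup.eq] at hsx
    simpa using h _ hsx s hs
  rw [hS, Nat.card_congr (QuotientGroup.preimageMkEquivSubgroupProdSet C _), Nat.card_prod]
  exact dvd_mul_right _ _

theorem exists_torus_minus {m : ℕ} (hm : 1 ≤ m) : ∃ A : El F, A.Is m (-1) ∧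
    orderOf A.g = Fintype.card F ^ m + 1 ∧ Even A.rk := by
  classical
  haveI : Fact (Nat.Prime 2) := ⟨Nat.prime_two⟩
  haveI : NeZero (2 * m) := ⟨by omega⟩
  obtain ⟨e2, -, hqe⟩ := FiniteField.card F 2
  set q := Fintype.card F with hqdef
  have hq1 : 1 < q := Fintype.one_lt_card
  let L := FiniteField.Extension F 2 (2 * m)
  haveI : Fintype L := Fintype.ofFinite L
  haveI : CharP L 2 := charP_of_injective_algebraMap (algebraMap F L).injective 2
  have hfr : finrank F L = 2 * m := FiniteField.finrank_extension F 2 _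
  have hL : Fintype.card L = q ^ m * q ^ m := by rw [← pow_add, ← two_mul, ← hfr, ← Module.card_eq_pow_finrank]
  have hQ1 : 2 ≤ q ^ m := le_trans hq1 (Nat.le_self_pow (by omega) q)
  have hunits : Nat.card Lˣ = (q ^ m + 1) * (q ^ m - 1) := by
    rw [Nat.card_eq_fintype_card, Fintype.card_units, hL]
    have := Nat.sq_sub_sq (q ^ m) 1
    rw [one_pow, sq] at this
    exact this
  obtain ⟨u₀, hu⟩ := IsCyclic.exists_generator (α := Lˣ)
  have hu0 : orderOf u₀ = (q ^ m + 1) * (q ^ m - 1) := by rw [orderOf_eq_card_of_forall_mem_zpowers hu, hunits]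
  obtain ⟨z, hzdef⟩ : ∃ z : Lˣ, z = u₀ ^ (q ^ m - 1) := ⟨_, rfl⟩
  have hord : orderOf z = q ^ m + 1 := by
    rw [hzdef, orderOf_pow_of_dvd (by omega) (hu0 ▸ dvd_mul_left _ _), hu0, Nat.mul_div_cancel _ (by omega)]
  let σ : L ≃ₐ[F] L := FiniteField.Extension.frob F 2 (2 * m) ^ m
  have hσ : ∀ x, σ x = x ^ q ^ m := fun x => by
    rw [show σ x = (FiniteField.Extension.frob F 2 (2 * m) ^ m) x from rfl,
      FiniteField.Extension.frob_iterate_apply, Nat.card_eq_fintype_card]
  have hσσ : ∀ x, σ (σ x) = x := fun x => by rw [hσ, hσ, ← pow_mul, ← hL, FiniteField.pow_card]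
  obtain ⟨x₀, hx₀⟩ : ∃ x : L, x + σ x ≠ 0 := by
    refine ⟨u₀, fun h => ?_⟩
    rw [hσ, CharTwo.add_eq_zero] at h
    have h1 : u₀ ^ (q ^ m - 1) = 1 := by
      refine Units.ext (mul_right_cancel₀ u₀.ne_zero ?_)
      rw [Units.val_pow_eq_pow_val, ← pow_succ, Nat.sub_add_cancel (by omega), Units.val_one, one_mul]
      exact h.symm
    rw [← hzdef, ← orderOf_eq_one_iff, hord] at h1
    omega
  obtain ⟨c, hcc⟩ : ∃ c : L, c + σ c = 1 := by
    refine ⟨x₀ / (x₀ + σ x₀), ?_⟩
    rw [map_div₀, show σ (x₀ + σ x₀) = x₀ + σ x₀ by rw [map_add, hσσ, add_comm], ← add_div, div_self hx₀]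
  let B : LinearMap.BilinMap F L F := LinearMap.mk₂ F
    (fun u v => Algebra.trace F L (c * u * σ v))
    (fun u u' v => by simp [mul_add, add_mul])
    (fun t u v => by rw [mul_smul_comm, smul_mul_assoc, map_smul])
    (fun u v v' => by simp [map_add, mul_add])
    (fun t u v => by rw [map_smul, mul_smul_comm, map_smul])
  let Q : QuadraticForm F L := LinearMap.BilinMap.toQuadraticMap B
  have hQ : ∀ v, Q v = Algebra.trace F L (c * v * σ v) := fun v => rfl
  have hpol : ∀ u v, QuadraticMap.polar Q u v = Algebra.trace F L (u * σ v) := fun u v => by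
    have e1 : Algebra.trace F L (c * v * σ u) = Algebra.trace F L (σ c * σ v * u) := by
      conv_lhs => rw [← Algebra.trace_eq_of_algEquiv σ (c * v * σ u), map_mul σ, map_mul σ, hσσ]
    simp only [QuadraticMap.polar, hQ, map_add, mul_add, add_mul]
    rw [e1]
    rw [show u * σ v = (c + σ c) * (u * σ v) by rw [hcc, one_mul], add_mul, map_add,
      show σ c * σ v * u = σ c * (u * σ v) by ring, show c * u * σ v = c * (u * σ v) by ring]
    ring
  have hnd : PolarNondeg Q := fun u hu => by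
    refine (traceForm_nondegenerate F L).1 u fun w => ?_
    rw [Algebra.traceForm_apply, ← hσσ w, ← hpol]
    exact hu _
  have hzσ : σ (z : L) * z = 1 := by
    rw [hσ, ← pow_succ, ← Units.val_pow_eq_pow_val, ← hord, pow_orderOf_eq_one, Units.val_one]
  let e : L ≃ₗ[F] L := (LinearEquiv.smulOfUnit z).restrictScalars F
  have he : ∀ v, e v = (z : L) * v := fun v => rfl
  have hinvQ : ∀ v, Q ((z : L) * v) = Q v := fun v => by
    rw [hQ, hQ, map_mul σ, show c * ((z : L) * v) * (σ z * σ v) = σ z * z * (c * v * σ v) by ring, hzσ, one_mul]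
  let g : qAut Q := ⟨e, hinvQ⟩
  have hpow : ∀ n v, (g ^ n).1 v = ((z ^ n : Lˣ) : L) * v := by
    intro n
    induction n with
    | zero => intro v; simp
    | succ n ih =>
      intro v
      rw [pow_succ', qAut_mul_apply, ih, pow_succ', Units.val_mul, mul_assoc]
      exact he _
  let b : L ≃ₗ[F] (Fin (2 * m) → F) := (Module.finBasisOfFinrankEq F L hfr).equivFun
  let Q' : QuadraticForm F (Fin (2 * m) → F) := Q.comp b.symm.toLinearMap
  have hb : ∀ p, Q' (b p) = Q p := fun p => by simp [Q']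
  refine ⟨⟨⟨Fin (2 * m) → F, Q', polarNondeg_congr b hb hnd⟩, qAutCongr b hb g⟩, ⟨Module.finrank_fin_fun F, ?_⟩,
    (MulEquiv.orderOf_eq _ g).trans ?_, ?_⟩
  · obtain ⟨ε, hε, hs⟩ := sg_cases (polarNondeg_congr b hb hnd) (by rw [Module.finrank_fin_fun]; exact even_two_mul m)
    rcases hε with rfl | rfl
    · exfalso
      obtain ⟨k, hk, hs⟩ := hs
      obtain rfl : m = k := by rw [Module.finrank_fin_fun] at hk; omega
      have h0 := hs 0
      -- the nonzero singular vectors
      set S : Set Lˣ := {x | Q (x : L) = 0}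
      have hstab : ∀ y ∈ Subgroup.zpowers z, ∀ s ∈ S, s * y ∈ S := by
        intro y hy s hs'
        obtain ⟨n, rfl⟩ := (mem_zpowers_iff_mem_range_orderOf.1 hy |> Finset.mem_image.1) |> fun ⟨n, _, h⟩ => (⟨n, h⟩ : ∃ n, z ^ n = _)
        show Q ((s * z ^ n : Lˣ) : L) = 0
        rw [Units.val_mul, mul_comm (s : L), ← hpow]
        exact (qAut_map _ _).trans hs'
      have hdvd := card_dvd_of_stable _ S hstab
      rw [Nat.card_zpowers, hord] at hdvd
      have hreps : reps Q' 0 = Nat.card S + 1 := by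
        let e1 : Option S ≃ {v : L // Q v = 0} :=
          { toFun := fun o => o.elim ⟨0, map_zero Q⟩ fun x => ⟨(x.1 : L), x.2⟩
            invFun := fun v => if h : v.1 = 0 then none else some ⟨Units.mk0 v.1 h, v.2⟩
            left_inv := fun o => by
              rcases o with _ | x
              · simp
              · simp
            right_inv := fun v => by
              by_cases h : v.1 = 0
              · simp only [dif_pos h]
                exact Subtype.ext h.symm
              · simp only [dif_neg h]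
                rfl }
        rw [reps, ← Nat.card_congr (b.toEquiv.subtypeEquiv (p := fun v => Q v = 0) fun v => by simp [hb]),
          ← Nat.card_congr e1, Finite.card_option]
      rw [hreps] at h0
      obtain ⟨Q', hQ'⟩ : ∃ Q' : ℕ, q ^ m = q * Q' := ⟨q ^ (m - 1), by rw [← pow_succ', Nat.sub_add_cancel hm]⟩
      have hS : (Nat.card S : ℤ) = ((q ^ m : ℕ) - 1) * ((Q' : ℤ) + 1) := by
        refine mul_left_cancel₀ (show (q : ℤ) ≠ 0 by omega) ?_
        rw [dfun, if_pos rfl, ← hqdef] at h0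
        push_cast at h0
        have hQ'' : (q : ℤ) ^ m = q * Q' := by exact_mod_cast hQ'
        rw [show (q : ℤ) ^ (2 * m) = (q : ℤ) ^ m * (q : ℤ) ^ m by rw [← pow_add, two_mul]] at h0
        push_cast
        rw [hQ''] at h0 ⊢
        linear_combination h0
      have hN : ((q ^ m + 1 : ℕ) : ℤ) ∣ 2 * ((Q' : ℤ) + 1) := by
        have h1 : ((q ^ m + 1 : ℕ) : ℤ) ∣ (Nat.card S : ℤ) := Int.natCast_dvd_natCast.2 hdvd
        rw [hS] at h1
        have h2 := dvd_sub (dvd_mul_right ((q ^ m + 1 : ℕ) : ℤ) ((Q' : ℤ) + 1)) h1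
        rw [show 2 * ((Q' : ℤ) + 1) = ((q ^ m + 1 : ℕ) : ℤ) * ((Q' : ℤ) + 1) -
          (((q ^ m : ℕ) : ℤ) - 1) * ((Q' : ℤ) + 1) by push_cast; ring]
        exact h2
      have hN' : (q ^ m + 1) ∣ 2 * (Q' + 1) := by exact_mod_cast hN
      have hodd : Nat.Coprime (q ^ m + 1) 2 := by
        rw [Nat.coprime_two_right, Nat.odd_add_one, Nat.not_odd_iff_even, hqe, ← pow_mul]
        exact Nat.even_pow.2 ⟨even_two, by positivity⟩
      have hle := Nat.le_of_dvd (Nat.succ_pos _) (hodd.dvd_of_dvd_mul_left hN')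
      have : 2 * Q' ≤ q * Q' := Nat.mul_le_mul_right _ hq1
      nlinarith
    · exact hs
  · rw [← hord]
    refine orderOf_eq_orderOf_iff.2 fun n => ?_
    constructor
    · intro h
      have := hpow n 1
      rw [h] at this
      exact Units.ext (by simpa using this.symm)
    · intro h
      exact qAut_ext fun v => by rw [hpow, h]; simp
  · show Even (qRank Q' (qAutCongr b hb g))
    rw [qRank_congr]
    unfold qRank
    rw [LinearMap.range_eq_top.2, finrank_top, hfr]
    · exact even_two_mul m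
    · refine LinearMap.surjective_of_injective ((injective_iff_map_eq_zero _).2 fun v hv => ?_)
      have hv' : (z : L) * v = v := sub_eq_zero.1 hv
      refine (mul_left_eq_self₀.1 hv').resolve_left fun h => ?_
      have : z = 1 := Units.ext h
      rw [← orderOf_eq_one_iff, hord] at this
      omega

/-! ### Reflections and unipotents -/

/-- A reflection of a plane, with a vector it moves off its perp. -/
theorem exists_refl {ε : ℤ} (hε : ε = 1 ∨ ε = -1) : ∃ A : El F, A.Is 1 ε ∧ orderOf A.g = 2 ∧ A.rk = 1 ∧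
    A.N ^ 2 = 0 ∧ ∃ v, QuadraticMap.polar A.S.form (A.N v) v ≠ 0 := by
  haveI : Fact (Nat.Prime 2) := ⟨Nat.prime_two⟩
  suffices h : ∃ A : El F, A.Is 1 ε ∧ A.rk = 1 ∧ A.N ^ 2 = 0 ∧ ∃ v, QuadraticMap.polar A.S.form (A.N v) v ≠ 0 by
    obtain ⟨A, h1, h2, h3, v, hv⟩ := h
    refine ⟨A, h1, ?_, h2, h3, v, hv⟩
    refine A.orderOf_two_pow 0 (by simpa using h3) ?_
    intro h
    refine hv ?_
    rw [pow_zero, pow_one] at h
    simp [h, QuadraticMap.polar]
  have rank1 : ∀ {V : Type u} [AddCommGroup V] [Module F V] (f : V →ₗ[F] V) (w : V), w ≠ 0 →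
      (∀ x, ∃ t : F, f x = t • w) → (∃ x, f x = w) → finrank F (LinearMap.range f) = 1 := by
    intro V _ _ f w hw h1 h2
    rw [show LinearMap.range f = Submodule.span F {w} from le_antisymm
      (by rintro _ ⟨x, rfl⟩; obtain ⟨t, ht⟩ := h1 x; exact Submodule.mem_span_singleton.2 ⟨t, ht.symm⟩)
      ((Submodule.span_singleton_le_iff_mem _ _).2 h2), finrank_span_singleton hw]
  rcases hε with rfl | rfl
  · let g : qAut (hyp2 F) := ⟨LinearEquiv.prodComm F F F, fun v => by simp [mul_comm]⟩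
    let A : El F := ⟨⟨F × F, hyp2 F, fun v hv => ?_⟩, g⟩
    swap
    · exact Prod.ext (by simpa [polar_hyp2] using hv (0, 1)) (by simpa [polar_hyp2] using hv (1, 0))
    have hN : ∀ x : F × F, A.N x = (x.1 + x.2) • ((1 : F), (1 : F)) := fun x => by
      show (x.2 - x.1, x.1 - x.2) = _
      simp [CharTwo.sub_eq_add, add_comm]
    have hd : finrank F (F × F) = 2 * 1 := by rw [Module.finrank_prod, Module.finrank_self]
    refine ⟨A, ⟨hd, 1, hd, hasSign_hyp2⟩,
      rank1 A.N _ (fun h => one_ne_zero (α := F) (congrArg Prod.fst h)) (fun x => ⟨_, hN x⟩) ⟨((1 : F), (0 : F)), by rw [hN]; simp⟩, LinearMap.ext fun x => ?_,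
      ((1 : F), (0 : F)), ?_⟩
    · rw [sq, Module.End.mul_apply, hN, hN]
      simp [CharTwo.add_self_eq_zero]
    · rw [hN]
      show QuadraticMap.polar (hyp2 F) _ _ ≠ 0
      simp [polar_hyp2]
  · obtain ⟨t, ht⟩ := CfsgLib.Classical.Elusive.exists_aniso (F := F)
    let e : (Fin 2 → F) →ₗ[F] (Fin 2 → F) :=
      LinearMap.pi ![LinearMap.proj (R := F) (φ := fun _ : Fin 2 => F) 0 + LinearMap.proj 1,
        LinearMap.proj (R := F) (φ := fun _ : Fin 2 => F) 1]
    have he0 : ∀ x, e x 0 = x 0 + x 1 := fun x => rfl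
    have he1 : ∀ x, e x 1 = x 1 := fun x => rfl
    have hee : ∀ x, e (e x) = x := fun x => funext fun i => by
      fin_cases i
      · show e (e x) 0 = x 0
        rw [he0, he0, he1, add_assoc, CharTwo.add_self_eq_zero, add_zero]
      · rfl
    let g : qAut (qBin 1 t) := ⟨LinearEquiv.ofInvolutive e hee, fun x => by
      show qBin 1 t (e x) = qBin 1 t x
      rw [qBin_apply, qBin_apply, he0, he1]
      linear_combination (x 0 * x 1 + x 1 ^ 2) * CharTwo.two_eq_zero (R := F)⟩
    let A : El F := ⟨⟨Fin 2 → F, qBin 1 t, polarNondeg_qBin ht⟩, g⟩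
    have hN : ∀ x : Fin 2 → F, A.N x = x 1 • ![(1 : F), 0] := fun x => funext fun i => by
      show e x i - x i = _
      fin_cases i
      · show e x 0 - x 0 = _
        rw [he0]; simp
      · show e x 1 - x 1 = _
        rw [he1]; simp
    refine ⟨A, ⟨Module.finrank_fin_fun F, 1, Module.finrank_fin_fun F, hasSign_qBin ht⟩,
      rank1 A.N _ (fun h => one_ne_zero (α := F) (congrFun h 0)) (fun x => ⟨_, hN x⟩)
        ⟨![(0 : F), 1], by rw [hN]; simp⟩, LinearMap.ext fun x => ?_, ![(0 : F), 1], ?_⟩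
    · rw [sq, Module.End.mul_apply, hN, hN]
      simp
    · rw [hN]
      show QuadraticMap.polar (qBin 1 t) _ _ ≠ 0
      simp [QuadraticMap.polar, qBin_apply]
      intro h
      have : (1 : F) = 0 := by linear_combination h
      exact one_ne_zero this

/-- Extension of an isometry by a hyperbolic pair and a vector. -/
theorem exists_ext (A : El F) (v : A.S.carrier) {k : ℕ} {ε : ℤ} (hA : A.Is k ε) :
    ∃ B : El F, B.Is (k + 1) ε ∧
      (∀ j, A.N ^ j = 0 → B.N ^ (j + 2) = 0) ∧
      (∀ j, (A.N ^ j) v ≠ 0 → B.N ^ (j + 1) ≠ 0) ∧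
      (∀ j, QuadraticMap.polar A.S.form (A.g.1 ((A.N ^ j) v)) v ≠ 0 → B.N ^ (j + 2) ≠ 0) ∧
      ∃ e : B.S.carrier, (∀ j, (A.N ^ j) v ≠ 0 → (B.N ^ (j + 1)) e ≠ 0) ∧
        (∀ j, QuadraticMap.polar A.S.form (A.g.1 ((A.N ^ j) v)) v ≠ 0 → (B.N ^ (j + 2)) e ≠ 0) ∧
        B.rk ≤ 2 * k + 1 := by
  set R := A.S.form
  set u := A.g
  let ξ : (F × F) × A.S.carrier →ₗ[F] (F × F) × A.S.carrier :=
    LinearMap.prod
      (LinearMap.prod (LinearMap.fst F F F ∘ₗ LinearMap.fst F (F × F) A.S.carrier
          + (LinearMap.flip (QuadraticMap.polarBilin R) v) ∘ₗ u.1.toLinearMap ∘ₗ LinearMap.snd F (F × F) A.S.carrier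
          + R v • (LinearMap.snd F F F ∘ₗ LinearMap.fst F (F × F) A.S.carrier))
        (LinearMap.snd F F F ∘ₗ LinearMap.fst F (F × F) A.S.carrier))
      (u.1.toLinearMap ∘ₗ LinearMap.snd F (F × F) A.S.carrier
        + (LinearMap.snd F F F ∘ₗ LinearMap.fst F (F × F) A.S.carrier).smulRight v)
  have hξ : ∀ x, ξ x = ((x.1.1 + QuadraticMap.polar R (u.1 x.2) v + R v * x.1.2, x.1.2), u.1 x.2 + x.1.2 • v) :=
    fun x => rfl
  have hinj : Function.Injective ξ := (injective_iff_map_eq_zero _).2 fun x hx => by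
    rw [hξ, Prod.mk_eq_zero, Prod.mk_eq_zero] at hx
    obtain ⟨⟨h1, h2⟩, h3⟩ := hx
    rw [h2, zero_smul, add_zero] at h3
    have h4 : x.2 = 0 := u.1.injective (by rw [h3, map_zero])
    rw [h2, h4, map_zero, mul_zero, add_zero, QuadraticMap.polar_zero_left, add_zero] at h1
    exact Prod.ext (Prod.ext h1 h2) h4
  have hQξ : ∀ x, hypSum R (ξ x) = hypSum R x := fun x => by
    rw [hypSum_apply, hypSum_apply, hξ]
    show (x.1.1 + _ + _) * x.1.2 + R (u.1 x.2 + x.1.2 • v) = _
    rw [QuadraticMap.map_add R (u.1 x.2) (x.1.2 • v), qAut_map u, QuadraticMap.map_smul,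
      QuadraticMap.polar_smul_right, smul_eq_mul, smul_eq_mul]
    linear_combination (x.1.2 * QuadraticMap.polar R (u.1 x.2) v + x.1.2 * x.1.2 * R v) *
      CharTwo.two_eq_zero (R := F)
  let g : qAut (hypSum R) := ⟨LinearEquiv.ofBijective ξ ⟨hinj, LinearMap.surjective_of_injective hinj⟩, hQξ⟩
  haveI : Finite A.S.carrier := Module.finite_of_finite F
  let B : El F := ⟨⟨(F × F) × A.S.carrier, hypSum R, polarNondeg_hypSum A.S.nondeg⟩, g⟩
  have hN : ∀ (a b : F) (z : A.S.carrier), B.N ((a, b), z) =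
      ((QuadraticMap.polar R (u.1 z) v + R v * b, 0), A.N z + b • v) := fun a b z => by
    show ξ ((a, b), z) - ((a, b), z) = _
    rw [hξ]
    refine Prod.ext (Prod.ext ?_ ?_) ?_
    · simp; ring
    · simp
    · show u.1 z + b • v - z = u.1 z - z + b • v
      abel
  have hNsnd : ∀ j, ∀ (a : F) (z : A.S.carrier), ∃ a', (B.N ^ j) ((a, 0), z) = ((a', 0), (A.N ^ j) z) := by
    intro j
    induction j with
    | zero => intro a z; exact ⟨a, rfl⟩
    | succ j ih =>
      intro a z
      obtain ⟨a', ha'⟩ := ih a z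
      refine ⟨_, by rw [pow_succ', Module.End.mul_apply, ha', hN, zero_smul, add_zero, pow_succ',
        Module.End.mul_apply]⟩
  have hNe : ∀ j, (B.N ^ (j + 1)) ((0, 1), 0) =
      (B.N ^ j) ((R v, 0), v) := fun j => by
    rw [pow_succ, Module.End.mul_apply, hN]
    simp
  have hNe1 : ∀ j, (A.N ^ j) v ≠ 0 → (B.N ^ (j + 1)) ((0, 1), 0) ≠ 0 := fun j hj h => by
    obtain ⟨a', ha'⟩ := hNsnd j (R v) v
    rw [hNe, ha'] at h
    exact hj (congrArg Prod.snd h)
  have hNe2 : ∀ j, QuadraticMap.polar R (u.1 ((A.N ^ j) v)) v ≠ 0 → (B.N ^ (j + 2)) ((0, 1), 0) ≠ 0 :=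
    fun j hj h => by
      obtain ⟨a', ha'⟩ := hNsnd j (R v) v
      rw [hNe, pow_succ', Module.End.mul_apply, ha', hN, mul_zero, add_zero] at h
      exact hj (congrArg (fun p => p.1.1) h)
  refine ⟨B, ⟨?_, ?_⟩, fun j hj => ?_, fun j hj h => hNe1 j hj (by rw [h]; rfl),
    fun j hj h => hNe2 j hj (by rw [h]; rfl), ((0, 1), 0), hNe1, hNe2, ?_⟩
  · show finrank F ((F × F) × A.S.carrier) = _
    rw [Module.finrank_prod, Module.finrank_prod, Module.finrank_self, hA.1]
    ring
  · obtain ⟨l, hl, hs⟩ := hA.2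
    refine ⟨l + 1, ?_, hasSign_hypSum hs⟩
    show finrank F ((F × F) × A.S.carrier) = _
    rw [Module.finrank_prod, Module.finrank_prod, Module.finrank_self, hl]
    ring
  · refine LinearMap.ext fun x => ?_
    obtain ⟨⟨a, b⟩, z⟩ := x
    rw [pow_succ, Module.End.mul_apply, hN, pow_succ', Module.End.mul_apply]
    obtain ⟨a', ha'⟩ := hNsnd j (QuadraticMap.polar R (u.1 z) v + R v * b) (A.N z + b • v)
    rw [ha', hj, LinearMap.zero_apply, hN]
    simp
    rfl
  · rw [El.rk_eq]
    have hle : LinearMap.range B.N ≤ ((⊤ : Submodule F F).prod (⊥ : Submodule F F)).prod ⊤ := by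
      rintro _ ⟨⟨⟨a, b⟩, z⟩, rfl⟩
      rw [hN]
      exact ⟨⟨trivial, rfl⟩, trivial⟩
    refine (Submodule.finrank_mono hle).trans (le_of_eq ?_)
    rw [finrank_sub_prod, finrank_sub_prod, finrank_top, finrank_bot, Module.finrank_self, finrank_top, hA.1]
    omega

/-- A regular unipotent isometry in dimension four. -/
theorem exists_four {ε : ℤ} (hε : ε = 1 ∨ ε = -1) : ∃ A : El F, A.Is 2 ε ∧ orderOf A.g = 4 ∧ A.rk = 3 ∧
    A.N ^ 4 = 0 ∧ ∃ v, (A.N ^ 3) v ≠ 0 := by
  obtain ⟨A, hA, -, -, hA2, v, hv⟩ := exists_refl (F := F) hε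
  have hgN : A.g.1 (A.N v) = A.N v := by
    have h := LinearMap.congr_fun hA2 v
    rw [sq, Module.End.mul_apply, LinearMap.zero_apply] at h
    exact sub_eq_zero.1 h
  have hv' : QuadraticMap.polar A.S.form (A.g.1 ((A.N ^ 1) v)) v ≠ 0 := by rwa [pow_one, hgN]
  obtain ⟨B, hB, h0, -, -, e, -, he2, hrk⟩ := exists_ext A v hA
  have h3 : (B.N ^ 3) e ≠ 0 := he2 1 hv'
  have h2 : B.N ^ 2 ≠ 0 := fun h => h3 (by rw [pow_succ', Module.End.mul_apply, h]; simp)
  refine ⟨B, hB, B.orderOf_two_pow 1 (h0 2 hA2) h2, le_antisymm (by simpa using hrk) ?_, h0 2 hA2, e, h3⟩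
  -- rank at least three
  rw [El.rk_eq]
  have hli : LinearIndependent F ![(B.N ^ 1) e, (B.N ^ 2) e, (B.N ^ 3) e] := by
    rw [Fintype.linearIndependent_iff]
    intro c hc
    simp only [Fin.sum_univ_three, Matrix.cons_val] at hc
    have h4 : ∀ m, 4 ≤ m → (B.N ^ m) e = 0 := fun m hm => by rw [pow_eq_zero_of_le hm (h0 2 hA2)]; rfl
    have e2 := congrArg (fun x : B.S.carrier => (B.N ^ 2 : Module.End F B.S.carrier) x) hc
    simp only [map_add, map_smul, map_zero, ← Module.End.mul_apply, ← pow_add] at e2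
    rw [h4 (2 + 2) le_rfl, h4 (2 + 3) (by norm_num), smul_zero, smul_zero, add_zero, add_zero] at e2
    have c0 : c 0 = 0 := (smul_eq_zero.1 e2).resolve_right h3
    rw [c0, zero_smul, zero_add] at hc
    have e1 := congrArg (fun x : B.S.carrier => (B.N ^ 1 : Module.End F B.S.carrier) x) hc
    simp only [map_add, map_smul, map_zero, ← Module.End.mul_apply, ← pow_add] at e1
    rw [h4 (1 + 3) le_rfl, smul_zero, add_zero] at e1
    have c1 : c 1 = 0 := (smul_eq_zero.1 e1).resolve_right h3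
    rw [c1, zero_smul, zero_add] at hc
    have c2 : c 2 = 0 := (smul_eq_zero.1 hc).resolve_right h3
    intro i
    fin_cases i
    exacts [c0, c1, c2]
  have hmem : ∀ i, ![(B.N ^ 1) e, (B.N ^ 2) e, (B.N ^ 3) e] i ∈ LinearMap.range B.N := by
    intro i
    fin_cases i
    · exact ⟨e, by simp⟩
    · exact ⟨(B.N ^ 1) e, by simp [pow_succ']⟩
    · exact ⟨(B.N ^ 2) e, by simp [pow_succ']⟩
  have := (LinearIndependent.of_comp (LinearMap.range B.N).subtype
    (show LinearIndependent F ((LinearMap.range B.N).subtype ∘ fun i => ⟨_, hmem i⟩) from hli)).fintype_card_le_finrank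
  simpa using this

/-- An isometry of order eight in dimension six. -/
theorem exists_eight {ε : ℤ} (hε : ε = 1 ∨ ε = -1) : ∃ A : El F, A.Is 3 ε ∧ orderOf A.g = 8 := by
  obtain ⟨A, hA, -, -, hA4, v, hv⟩ := exists_four (F := F) hε
  obtain ⟨B, hB, h0, h1, -⟩ := exists_ext A v hA
  exact ⟨B, hB, B.orderOf_two_pow 2 (pow_eq_zero_of_le (by norm_num) (h0 4 hA4)) (h1 3 hv)⟩

end CfsgLib.SpFourTwins.Eight
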