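/-
The element orders of `Sp(8, q)`, of `GO⁻(8, q)` and of extensions of the natural module, `q` even.
-/
import Cfsg.Agent.Lib.Spectrum.SpEightTwins.Poly
import Cfsg.Agent.Lib.Spectrum.SpEightTwins.Pieces
import Cfsg.Agent.Lib.Spectrum.SpFourTwins.Twin
import Cfsg.Agent.Lib.Classical.AltBasis
import Cfsg.Agent.Lib.Classical.SpBasic

set_option autoImplicit false
set_option linter.style.haveILetI false

namespace CfsgLib.SpFourTwins.Eight

open Module Polynomial CfsgLib.Classical CfsgLib.Classical.QuadSign CfsgLib.Classical22.OrthType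
  CfsgLib.KnownSimple

universe u

variable {F : Type u} [Field F] [Fintype F] [CharP F 2]

/-! ### Upper bound -/

/-- An element satisfying a self-reciprocal polynomial of degree at most eight has listed exponent. -/
lemma exists_pow_of_selfrec {A : Type*} [Ring A] [Algebra F A] {g : A} {P : F[X]} (hm : P.Monic)
    (hd : P.natDegree ≤ 8) (h0 : P.coeff 0 ≠ 0) (hr : P ∣ P.reverse) (hP : aeval g P = 0) :
    ∃ N ∈ lst (Fintype.card F), g ^ N = 1 := by
  obtain ⟨N, hN, r, hr⟩ := exists_exp hm hd h0 hr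
  refine ⟨N, hN, ?_⟩
  have := congrArg (aeval g) hr
  rwa [map_mul, hP, zero_mul, map_sub, map_pow, aeval_X, map_one, sub_eq_zero] at this

omit [Fintype F] [CharP F 2] in
lemma coeff_zero_ne_of_pow_eq_one {A : Type*} [Ring A] [Algebra F A] {g : A} {n : ℕ} (hn : 0 < n)
    (hg : g ^ n = 1) : (minpoly F g).coeff 0 ≠ 0 := by
  intro h
  have hd : minpoly F g ∣ X ^ n - 1 := minpoly.dvd F g (by simp [hg])
  have hx : (X : F[X]) ∣ X ^ n - 1 := (Polynomial.X_dvd_iff.2 h).trans hd
  rw [Polynomial.X_dvd_iff] at hx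
  simp [hn.ne, Polynomial.coeff_one] at hx

/-- Element orders of `Sp(8, q)`. -/
theorem adm_sp (g : Matrix.symplecticGroup (Fin 4) F) : AdmEight (Fintype.card F) (orderOf g) := by
  classical
  have hadj : spAdj g.1 * g.1 = 1 := mem_sp_iff_spAdj.1 g.2
  have key : ∀ p : F[X], aeval (spAdj g.1) p = spAdj (aeval g.1 p) := by
    intro p
    induction p using Polynomial.induction_on' with
    | add p r hp hr => rw [map_add, map_add, hp, hr, spAdj_add]
    | monomial n a =>
      rw [aeval_monomial, aeval_monomial, Algebra.algebraMap_eq_smul_one, smul_mul_assoc, one_mul, smul_mul_assoc,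
        one_mul, spAdj_smul, spAdj_pow]
  have hint : IsIntegral F g.1 := Matrix.isIntegral g.1
  have hdeg : (minpoly F g.1).natDegree ≤ 8 := by
    refine (natDegree_le_of_dvd (Matrix.minpoly_dvd_charpoly g.1) (Matrix.charpoly_monic g.1).ne_zero).trans ?_
    rw [Matrix.charpoly_natDegree_eq_dim]
    simp
  obtain ⟨N, hN, hg⟩ := exists_pow_of_selfrec (g := g.1) (minpoly.monic hint) hdeg
    (coeff_zero_ne_of_pow_eq_one (orderOf_pos g) (by rw [← SubmonoidClass.coe_pow, pow_orderOf_eq_one]; rfl))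
    (minpoly.dvd F _ (aeval_reverse_eq_zero (mul_eq_one_comm.1 hadj) _ (by rw [key, minpoly.aeval, spAdj_zero])))
    (minpoly.aeval F _)
  exact ⟨N, hN, orderOf_dvd_of_pow_eq_one (Subtype.ext (by rw [SubmonoidClass.coe_pow, hg]; rfl))⟩

omit [Fintype F] in
lemma orderOf_spMk_eq (g : Matrix.symplecticGroup (Fin 4) F) : orderOf (spMk g) = orderOf g := by
  refine Nat.dvd_antisymm (orderOf_map_dvd _ _) (orderOf_dvd_of_pow_eq_one ?_)
  have hneg : (-1 : Matrix (Fin 4 ⊕ Fin 4) (Fin 4 ⊕ Fin 4) F) = 1 := by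
    rw [← neg_one_smul F (1 : Matrix (Fin 4 ⊕ Fin 4) (Fin 4 ⊕ Fin 4) F), CharTwo.neg_eq, one_smul]
  rcases (spMk_pow_eq_one_iff g _).1 (pow_orderOf_eq_one (spMk g)) with h | h
  · exact Subtype.ext (by simpa using h)
  · exact Subtype.ext (by simpa [hneg] using h)

theorem adm_psp (y : Cfsg.PSp 4 F) : AdmEight (Fintype.card F) (orderOf y) := by
  obtain ⟨g, rfl⟩ := QuotientGroup.mk'_surjective _ y
  exact (adm_sp g).mono (orderOf_map_dvd _ _)

/-! ### Witnesses -/

omit [Fintype F] in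
/-- The isometry group of a form in dimension eight maps into `Sp(8, q)`. -/
theorem exists_hom_sp {V : Type u} [AddCommGroup V] [Module F V] [FiniteDimensional F V] {Q : QuadraticForm F V}
    (hQ : PolarNondeg Q) (hd : finrank F V = 8) :
    ∃ f : qAut Q →* Matrix.symplecticGroup (Fin 4) F, Function.Injective f := by
  classical
  obtain ⟨m, hm, e, he⟩ := exists_symp_equiv (QuadraticMap.polarBilin Q)
    (fun v => by
      show QuadraticMap.polar Q v v = 0
      rw [quad_polar_self, CharTwo.two_eq_zero, zero_mul]) hQ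
  obtain rfl : m = 4 := by omega
  let f₀ : qAut Q → Matrix.symplecticGroup (Fin 4) F := fun g =>
    ⟨LinearMap.toMatrix' (e.trans (g.1.trans e.symm)).toLinearMap, mem_sp_iff.2 fun u v => by
      rw [LinearMap.toMatrix'_mulVec, LinearMap.toMatrix'_mulVec, ← he, ← he]
      simp only [LinearEquiv.coe_coe, LinearEquiv.trans_apply, LinearEquiv.apply_symm_apply]
      exact qAut_polar g _ _⟩
  have hf : ∀ g v, (f₀ g).1.mulVec v = e.symm (g.1 (e v)) := fun g v => LinearMap.toMatrix'_mulVec _ v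
  refine ⟨MonoidHom.mk' f₀ fun g h => sp_ext fun v => ?_, fun g h hgh => qAut_ext fun v => ?_⟩
  · rw [Submonoid.coe_mul, ← Matrix.mulVec_mulVec, hf, hf, hf, e.apply_symm_apply]
    rfl
  · have := congrArg (fun M : Matrix.symplecticGroup (Fin 4) F => M.1.mulVec (e.symm v)) hgh
    simp only [MonoidHom.mk'_apply, hf, LinearEquiv.apply_symm_apply, EmbeddingLike.apply_eq_iff_eq] at this
    exact this

omit [Fintype F] in
lemma El.norm_of_four (A : El F) (h : orderOf A.g = 4) (hv : ∃ v, (A.N ^ 3) v ≠ 0) : A.Norm := by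
  obtain ⟨v, hv⟩ := hv
  exact ⟨v, by rw [h, ← A.N_pow_three]; exact hv⟩

omit [Fintype F] in
lemma El.norm_of_two (A : El F) (h : orderOf A.g = 2) (hv : ∃ v, A.N v ≠ 0) : A.Norm := by
  obtain ⟨v, hv⟩ := hv
  refine ⟨v, ?_⟩
  have : ∑ i ∈ Finset.range (orderOf A.g), A.e ^ i = A.N := by
    rw [h, Finset.sum_range_succ, Finset.sum_range_one, pow_zero, pow_one]
    show 1 + A.e = A.e - 1
    have h2 : (1 : Module.End F A.S.carrier) + A.e = A.e - 1 + 2 := by
      rw [show (2 : Module.End F A.S.carrier) = 1 + 1 by norm_num]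
      abel
    rw [h2, two_end, add_zero]
  rwa [this]

omit [Fintype F] [CharP F 2] in
lemma El.N_pow_sum (A B : El F) (v : A.S.carrier) (n : ℕ) : ((A.sum B).N ^ n) (v, 0) = ((A.N ^ n) v, 0) := by
  induction n with
  | zero => rfl
  | succ n ih =>
    rw [pow_succ', Module.End.mul_apply, ih, pow_succ', Module.End.mul_apply]
    refine Prod.ext rfl ?_
    show B.g.1 0 - 0 = 0
    rw [map_zero, sub_zero]

/-- Isometries of the required orders, some with nonvanishing norm. -/
theorem exists_el {N : ℕ} (hN : N ∈ lst (Fintype.card F)) :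
    (∃ A : El F, A.Is 4 (-1) ∧ N ∣ orderOf A.g) ∧
    (∃ A : El F, A.Is 4 (-1) ∧ Even A.rk ∧ (N ∣ orderOf A.g ∨ A.Norm ∧ N ∣ 2 * orderOf A.g)) := by
  classical
  obtain ⟨e, -, hqe⟩ := FiniteField.card F 2
  set q := Fintype.card F with hq
  have h1q : 1 ≤ q := Fintype.card_pos
  obtain ⟨c, hc⟩ : Even q := hqe ▸ Nat.even_pow.2 ⟨even_two, e.pos.ne'⟩
  have hev : ∀ n, 1 ≤ n → ∃ d, q ^ n = 2 * d := fun n hn => by
    obtain ⟨d, hd⟩ : Even (q ^ n) := Nat.even_pow.2 ⟨⟨c, hc⟩, by omega⟩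
    exact ⟨d, by omega⟩
  have om : ∀ n, 1 ≤ n → Odd (q ^ n - 1) := fun n hn => by
    obtain ⟨d, hd⟩ := hev n hn
    have : 1 ≤ q ^ n := Nat.one_le_pow _ _ h1q
    exact ⟨d - 1, by omega⟩
  have op : ∀ n, 1 ≤ n → Odd (q ^ n + 1) := fun n hn => by
    obtain ⟨d, hd⟩ := hev n hn
    exact ⟨d, by omega⟩
  have cop : ∀ {s t : ℕ}, Odd t → (2 ^ s).Coprime t := fun h => (Nat.coprime_two_left.2 h).pow_left _
  -- two odd numbers with a multiple of one differing from a multiple of the other by two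
  have cop2 : ∀ {a b x y : ℕ}, Odd a → a ∣ x → b ∣ y → x + 2 = y → a.Coprime b := by
    intro a b x y ha hx hy hxy
    refine Nat.coprime_of_dvd' fun r hr hra hrb => ?_
    have h2 : r ∣ 2 := by
      have := Nat.dvd_sub (hrb.trans hy) (hra.trans hx)
      rwa [show y - x = 2 by omega] at this
    obtain rfl := (Nat.prime_dvd_prime_iff_eq hr Nat.prime_two).1 h2
    exact absurd (even_iff_two_dvd.2 hra) (Nat.not_even_iff_odd.2 ha)
  have pq : 1 ≤ q ^ 2 ∧ 1 ≤ q ^ 3 ∧ 1 ≤ q ^ 4 :=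
    ⟨Nat.one_le_pow _ _ h1q, Nat.one_le_pow _ _ h1q, Nat.one_le_pow _ _ h1q⟩
  have c2m : (q ^ 2 + 1).Coprime (q - 1) := by
    have h := om 1 le_rfl
    rw [pow_one] at h
    exact (cop2 h (Nat.sub_one_dvd_pow_sub_one q 2) dvd_rfl (by omega)).symm
  have q2 : q ^ 2 - 1 = (q - 1) * (q + 1) := by rw [mul_comm, ← Nat.sq_sub_sq, one_pow]
  have c2p : (q ^ 2 + 1).Coprime (q + 1) := by
    have h := op 1 le_rfl
    rw [pow_one] at h
    exact (cop2 h (q2 ▸ dvd_mul_left _ _) dvd_rfl (by omega)).symm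
  have c22 : (q ^ 2 - 1).Coprime (q ^ 2 + 1) := cop2 (om 2 (by norm_num)) dvd_rfl dvd_rfl (by omega)
  have c3m : (q ^ 3 + 1).Coprime (q - 1) := by
    have h := om 1 le_rfl
    rw [pow_one] at h
    exact (cop2 h (Nat.sub_one_dvd_pow_sub_one q 3) dvd_rfl (by omega)).symm
  have c3p : (q ^ 3 - 1).Coprime (q + 1) :=
    cop2 (om 3 (by norm_num)) dvd_rfl
      (by simpa using Odd.nat_add_dvd_pow_add_pow q 1 (by decide : Odd 3)) (by omega)
  obtain ⟨Tp1, hTp1, oTp1, rTp1⟩ := exists_torus_plus (F := F) (m := 1) le_rfl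
  obtain ⟨Tm1, hTm1, oTm1, rTm1⟩ := exists_torus_minus (F := F) (m := 1) le_rfl
  obtain ⟨Tp2, hTp2, oTp2, rTp2⟩ := exists_torus_plus (F := F) (m := 2) (by norm_num)
  obtain ⟨Tm2, hTm2, oTm2, rTm2⟩ := exists_torus_minus (F := F) (m := 2) (by norm_num)
  obtain ⟨Tp3, hTp3, oTp3, rTp3⟩ := exists_torus_plus (F := F) (m := 3) (by norm_num)
  obtain ⟨Tm3, hTm3, oTm3, rTm3⟩ := exists_torus_minus (F := F) (m := 3) (by norm_num)
  rw [pow_one, ← hq] at oTp1 oTm1
  rw [← hq] at oTp2 oTm2 oTp3 oTm3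
  obtain ⟨Rp, hRp, oRp, rRp, -, vp, hvp⟩ := exists_refl (F := F) (ε := 1) (Or.inl rfl)
  obtain ⟨Rm, hRm, oRm, rRm, -, vm, hvm⟩ := exists_refl (F := F) (ε := -1) (Or.inr rfl)
  obtain ⟨Fp, hFp, oFp, rFp, -, hFpv⟩ := exists_four (F := F) (ε := 1) (Or.inl rfl)
  obtain ⟨Fm, hFm, oFm, rFm, -, hFmv⟩ := exists_four (F := F) (ε := -1) (Or.inr rfl)
  obtain ⟨Ep, hEp, oEp⟩ := exists_eight (F := F) (ε := 1) (Or.inl rfl)
  obtain ⟨Em, hEm, oEm⟩ := exists_eight (F := F) (ε := -1) (Or.inr rfl)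
  obtain ⟨Sp', hSp'⟩ := exists_space_even (F := F) 1 (ε := 1) (Or.inl rfl) (by simp)
  obtain ⟨Sm, hSm⟩ := exists_space_even (F := F) 1 (ε := -1) (Or.inr rfl) (by simp)
  have iIp : (El.triv Sp').Is 1 1 := hSp'
  have iIm : (El.triv Sm).Is 1 (-1) := hSm
  have oI : ∀ S : Space F, orderOf (El.triv S).g = 1 := fun S => orderOf_one
  have rI : ∀ S : Space F, Even (El.triv S).rk := fun S => by rw [El.rk_triv]; exact ⟨0, rfl⟩
  have ord : ∀ (A B : El F) (a b : ℕ), orderOf A.g = a → orderOf B.g = b → a.Coprime b →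
      orderOf (A.sum B).g = a * b := fun A B a b ha hb h => by rw [El.orderOf_sum, ha, hb, h.lcm_eq_mul]
  have ev : ∀ (A B : El F), Even A.rk → Even B.rk → Even (A.sum B).rk := fun A B ha hb => by
    rw [El.rk_sum]; exact ha.add hb
  -- a part with nonvanishing norm and an odd part
  have dbl : ∀ (A B : El F) (s b : ℕ) (M : ℕ), orderOf A.g = 2 ^ s → orderOf B.g = b → Odd b → A.Norm →
      M ∣ 2 ^ (s + 1) * b → (A.sum B).Norm ∧ M ∣ 2 * orderOf (A.sum B).g := by
    intro A B s b M ha hb hodd hA hM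
    refine ⟨A.norm_sum B hA (hb ▸ hodd) (ha ▸ hb ▸ cop hodd), ?_⟩
    rw [ord A B _ _ ha hb (cop hodd)]
    rwa [pow_succ', mul_assoc] at hM
  simp only [lst, List.mem_cons, List.not_mem_nil, or_false] at hN
  rcases hN with rfl | rfl | rfl | rfl | rfl | rfl | rfl | rfl | rfl | rfl | rfl | rfl
  · have h := om 1 le_rfl
    rw [pow_one] at h
    refine ⟨⟨Em.sum Tp1, by simpa using hEm.sum hTp1,
      (ord _ _ _ _ oEm oTp1 (cop (s := 3) h)).symm.dvd⟩,
      (Fm.sum Rp).sum Tp1, by simpa using (hFm.sum hRp).sum hTp1, ev _ _ ?_ rTp1, Or.inr ?_⟩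
    · rw [El.rk_sum, rFm, rRp]; decide
    · refine dbl _ _ 2 _ _ (by rw [El.orderOf_sum, oFm, oRp]; rfl) oTp1 h ?_ dvd_rfl
      refine El.norm_of_four _ (by rw [El.orderOf_sum, oFm, oRp]; rfl) ?_
      obtain ⟨v, hv⟩ := hFmv
      exact ⟨(v, 0), fun h => hv (congrArg Prod.fst ((El.N_pow_sum _ _ v 3).symm.trans h))⟩
  · have h := op 1 le_rfl
    rw [pow_one] at h
    refine ⟨⟨Ep.sum Tm1, by simpa using hEp.sum hTm1,
      (ord _ _ _ _ oEp oTm1 (cop (s := 3) h)).symm.dvd⟩,
      (Fp.sum Rp).sum Tm1, by simpa using (hFp.sum hRp).sum hTm1, ev _ _ ?_ rTm1, Or.inr ?_⟩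
    · rw [El.rk_sum, rFp, rRp]; decide
    · refine dbl _ _ 2 _ _ (by rw [El.orderOf_sum, oFp, oRp]; rfl) oTm1 h ?_ dvd_rfl
      refine El.norm_of_four _ (by rw [El.orderOf_sum, oFp, oRp]; rfl) ?_
      obtain ⟨v, hv⟩ := hFpv
      exact ⟨(v, 0), fun h => hv (congrArg Prod.fst ((El.N_pow_sum _ _ v 3).symm.trans h))⟩
  · refine ⟨⟨Fm.sum Tp2, by simpa using hFm.sum hTp2,
      (ord _ _ _ _ oFm oTp2 (cop (s := 2) (om 2 (by norm_num)))).symm.dvd⟩,
      (Rm.sum Rp).sum Tp2, by simpa using (hRm.sum hRp).sum hTp2, ev _ _ ?_ rTp2, Or.inr ?_⟩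
    · rw [El.rk_sum, rRm, rRp]; decide
    · refine dbl _ _ 1 _ _ (by rw [El.orderOf_sum, oRm, oRp]; rfl) oTp2 (om 2 (by norm_num)) ?_ dvd_rfl
      refine El.norm_of_two _ (by rw [El.orderOf_sum, oRm, oRp]; rfl) ⟨(vm, 0), fun h => hvm ?_⟩
      rw [show Rm.N vm = 0 from congrArg Prod.fst h]
      simp [QuadraticMap.polar]
  · refine ⟨⟨Fp.sum Tm2, by simpa using hFp.sum hTm2,
      (ord _ _ _ _ oFp oTm2 (cop (s := 2) (op 2 (by norm_num)))).symm.dvd⟩,
      (Rp.sum Rp).sum Tm2, by simpa using (hRp.sum hRp).sum hTm2, ev _ _ ?_ rTm2, Or.inr ?_⟩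
    · rw [El.rk_sum, rRp]; decide
    · refine dbl _ _ 1 _ _ (by rw [El.orderOf_sum, oRp]; rfl) oTm2 (op 2 (by norm_num)) ?_ dvd_rfl
      refine El.norm_of_two _ (by rw [El.orderOf_sum, oRp]; rfl) ⟨(vp, 0), fun h => hvp ?_⟩
      rw [show Rp.N vp = 0 from congrArg Prod.fst h]
      simp [QuadraticMap.polar]
  · have h : Odd ((q ^ 2 + 1) * (q - 1)) := (op 2 (by norm_num)).mul (by simpa using om 1 le_rfl)
    have ho := ord _ _ _ _ oTm2 oTp1 c2m
    refine ⟨⟨Rp.sum (Tm2.sum Tp1), by simpa using hRp.sum (hTm2.sum hTp1),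
      (ord _ _ _ _ oRp ho (cop (s := 1) h)).symm.dvd⟩,
      (El.triv Sp').sum (Tm2.sum Tp1), by simpa using iIp.sum (hTm2.sum hTp1),
      ev _ _ (rI _) (ev _ _ rTm2 rTp1), Or.inr ?_⟩
    exact dbl _ _ 0 _ _ (oI _) ho h (El.norm_triv _ (by rw [hSp'.1]; norm_num)) dvd_rfl
  · have h : Odd ((q ^ 2 + 1) * (q + 1)) := (op 2 (by norm_num)).mul (by simpa using op 1 le_rfl)
    have ho := ord _ _ _ _ oTm2 oTm1 c2p
    refine ⟨⟨Rm.sum (Tm2.sum Tm1), by simpa using hRm.sum (hTm2.sum hTm1),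
      (ord _ _ _ _ oRm ho (cop (s := 1) h)).symm.dvd⟩,
      (El.triv Sm).sum (Tm2.sum Tm1), by simpa using iIm.sum (hTm2.sum hTm1),
      ev _ _ (rI _) (ev _ _ rTm2 rTm1), Or.inr ?_⟩
    exact dbl _ _ 0 _ _ (oI _) ho h (El.norm_triv _ (by rw [hSm.1]; norm_num)) dvd_rfl
  · have h := om 3 (by norm_num)
    refine ⟨⟨Rm.sum Tp3, by simpa using hRm.sum hTp3, (ord _ _ _ _ oRm oTp3 (cop (s := 1) h)).symm.dvd⟩,
      (El.triv Sm).sum Tp3, by simpa using iIm.sum hTp3, ev _ _ (rI _) rTp3, Or.inr ?_⟩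
    exact dbl _ _ 0 _ _ (oI _) oTp3 h (El.norm_triv _ (by rw [hSm.1]; norm_num)) dvd_rfl
  · have h := op 3 (by norm_num)
    refine ⟨⟨Rp.sum Tm3, by simpa using hRp.sum hTm3, (ord _ _ _ _ oRp oTm3 (cop (s := 1) h)).symm.dvd⟩,
      (El.triv Sp').sum Tm3, by simpa using iIp.sum hTm3, ev _ _ (rI _) rTm3, Or.inr ?_⟩
    exact dbl _ _ 0 _ _ (oI _) oTm3 h (El.norm_triv _ (by rw [hSp'.1]; norm_num)) dvd_rfl
  · have q4 : q ^ 4 - 1 = (q ^ 2 - 1) * (q ^ 2 + 1) := by rw [mul_comm, ← Nat.sq_sub_sq, one_pow, ← pow_mul]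
    have ho := ord _ _ _ _ oTp2 oTm2 c22
    exact ⟨⟨Tp2.sum Tm2, by simpa using hTp2.sum hTm2, by rw [ho, q4]⟩,
      Tp2.sum Tm2, by simpa using hTp2.sum hTm2, ev _ _ rTp2 rTm2, Or.inl (by rw [ho, q4])⟩
  · obtain ⟨Tm4, hTm4, oTm4, rTm4⟩ := exists_torus_minus (F := F) (m := 4) (by norm_num)
    rw [← hq] at oTm4
    exact ⟨⟨Tm4, hTm4, by rw [oTm4]⟩, Tm4, hTm4, rTm4, Or.inl (by rw [oTm4])⟩
  · have ho := ord _ _ _ _ oTm3 oTp1 c3m
    exact ⟨⟨Tm3.sum Tp1, by simpa using hTm3.sum hTp1, by rw [ho]⟩,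
      Tm3.sum Tp1, by simpa using hTm3.sum hTp1, ev _ _ rTm3 rTp1, Or.inl (by rw [ho])⟩
  · have ho := ord _ _ _ _ oTp3 oTm1 c3p
    exact ⟨⟨Tp3.sum Tm1, by simpa using hTp3.sum hTm1, by rw [ho]⟩,
      Tp3.sum Tm1, by simpa using hTp3.sum hTm1, ev _ _ rTp3 rTm1, Or.inl (by rw [ho])⟩

omit [CharP F 2] in
/-- Transport to the standard minus form. -/
theorem El.transport (A : El F) (hA : A.Is 4 (-1)) {a b : F} (hab : BinAniso a b) :
    ∃ g : qAut (qExt 3 (qBin a b)), orderOf g = orderOf A.g ∧ qRank _ g = A.rk ∧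
      (A.Norm → ∃ v, (∑ i ∈ Finset.range (orderOf g),
        (g.1.toLinearMap : Module.End F ((Fin 3 ⊕ Fin 3) ⊕ Fin 2 → F)) ^ i) v ≠ 0) := by
  obtain ⟨k, hk, hs⟩ := hA.2
  obtain rfl : k = 4 := by have := hA.1; omega
  have hn : finrank F ((Fin 3 ⊕ Fin 3) ⊕ Fin 2 → F) = 2 * 4 := by simp
  obtain ⟨e, he⟩ := exists_isometry_of_hasSign 4 A.S.form (qExt 3 (qBin a b)) (-1) A.S.nondeg
    (polarNondeg_qExt (polarNondeg_qBin hab) 3) hk hn hs (hasSign_qExt_qBin hab 3)
  refine ⟨qAutCongr e he A.g, MulEquiv.orderOf_eq _ _, qRank_congr e he A.g, ?_⟩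
  rintro ⟨v, hv⟩
  refine ⟨e v, fun h => hv ?_⟩
  have hp : ∀ i, (((qAutCongr e he A.g).1.toLinearMap : Module.End F ((Fin 3 ⊕ Fin 3) ⊕ Fin 2 → F)) ^ i) (e v) =
      e ((A.e ^ i) v) := by
    intro i
    induction i with
    | zero => rfl
    | succ i ih =>
      rw [pow_succ', Module.End.mul_apply, ih, pow_succ', Module.End.mul_apply]
      show e (A.g.1 (e.symm (e _))) = _
      rw [e.symm_apply_apply]
      rfl
  rw [MulEquiv.orderOf_eq, LinearMap.sum_apply] at h
  simp only [hp, ← map_sum, LinearEquiv.map_eq_zero_iff] at h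
  rw [LinearMap.sum_apply]
  exact h

theorem exists_go {a b : F} (hab : BinAniso a b) {n : ℕ} (hn : AdmEight (Fintype.card F) n) :
    ∃ g : qAut (qExt 3 (qBin a b)), n ∣ orderOf g := by
  obtain ⟨N, hN, hnN⟩ := hn
  obtain ⟨A, hA, hd⟩ := (exists_el hN).1
  obtain ⟨g, hg, -⟩ := A.transport hA hab
  exact ⟨g, hnN.trans (hg ▸ hd)⟩

theorem exists_psp {n : ℕ} (hn : AdmEight (Fintype.card F) n) : ∃ y : Cfsg.PSp 4 F, n ∣ orderOf y := by
  obtain ⟨N, hN, hnN⟩ := hn
  obtain ⟨A, hA, hd⟩ := (exists_el hN).1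
  obtain ⟨f, hf⟩ := exists_hom_sp A.S.nondeg (by rw [hA.1])
  exact ⟨spMk (f A.g), hnN.trans (by rw [orderOf_spMk_eq, orderOf_injective f hf]; exact hd)⟩

/-- `PSp(8, q)` and `GO⁻(8, q)` have the same element orders. -/
theorem range_go {a b : F} (hab : BinAniso a b) :
    Set.range (orderOf : Cfsg.PSp 4 F → ℕ) =
      Set.range (orderOf : ↥(Cfsg.isometryGroup F (Cfsg.quadFormMinus 3 F a b)) → ℕ) := by
  classical
  rw [← coe_qExt_qBin]
  haveI := finite_qAut (qExt 3 (qBin a b))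
  haveI : Finite (Cfsg.isometryGroup F ⇑(qExt 3 (qBin a b))) := Finite.of_equiv _ (isoEquiv _).symm.toEquiv
  refine range_orderOf_eq_of_forall_dvd (fun y => ?_) fun g => ?_
  · obtain ⟨g, hg⟩ := exists_go hab (adm_psp y)
    exact ⟨(isoEquiv _).symm g, by rwa [MulEquiv.orderOf_eq]⟩
  · obtain ⟨f, hf⟩ := exists_hom_sp (polarNondeg_qExt (polarNondeg_qBin hab) 3) (by simp)
    exact ⟨spMk (f (isoEquiv _ g)), by rw [orderOf_spMk_eq, orderOf_injective f hf, MulEquiv.orderOf_eq]⟩

/-! ### Extensions of the natural module -/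

omit [Fintype F] [CharP F 2] in
/-- With at least a fixed plane the minimal polynomial has degree less than the dimension. -/
lemma minpoly_natDegree_le {V : Type u} [AddCommGroup V] [Module F V] [FiniteDimensional F V] (T : Module.End F V)
    {r : ℕ} (hr : finrank F (LinearMap.range (T - 1)) ≤ r) : (minpoly F T).natDegree ≤ r + 1 := by
  set U := LinearMap.range (T - 1)
  have hU : ∀ u ∈ U, T u ∈ U := by
    rintro _ ⟨w, rfl⟩
    exact ⟨T w, by simp⟩
  set T' : Module.End F U := T.restrict hU with hT'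
  have hcoe : ∀ (p : F[X]) (u : U), ((aeval T' p) u : V) = aeval T p (u : V) := by
    intro p
    induction p using Polynomial.induction_on' with
    | add p r hp hr => intro u; simp [hp, hr]
    | monomial n c =>
      intro u
      induction n generalizing u with
      | zero => simp
      | succ n ih =>
        rw [← Polynomial.monomial_mul_X, map_mul, map_mul, Module.End.mul_apply, Module.End.mul_apply, ih, aeval_X,
          aeval_X]
        rfl
  have h0 : aeval T (T'.charpoly * (X - 1)) = 0 := LinearMap.ext fun v => by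
    rw [map_mul, Module.End.mul_apply, map_sub, aeval_X, map_one, LinearMap.zero_apply,
      show ((T - 1) v) = ((⟨(T - 1) v, v, rfl⟩ : U) : V) from rfl, ← hcoe, LinearMap.aeval_self_charpoly]
    rfl
  refine (natDegree_le_of_dvd (minpoly.dvd F T h0)
    (mul_ne_zero T'.charpoly_monic.ne_zero (by simpa using X_sub_C_ne_zero (1 : F)))).trans ?_
  rw [natDegree_mul T'.charpoly_monic.ne_zero (by simpa using X_sub_C_ne_zero (1 : F)), LinearMap.charpoly_natDegree,
    show (X - 1 : F[X]).natDegree = 1 by simpa using natDegree_X_sub_C (1 : F)]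
  omega

theorem exists_twins (M : ℕ) : ∃ (H : Type) (_ : Group H) (_ : Fintype H), M < Fintype.card H ∧
    Set.range (orderOf : H → ℕ) = Set.range (orderOf : Cfsg.PSp 4 F → ℕ) := by
  classical
  obtain ⟨a, hab⟩ := CfsgLib.Classical.Elusive.exists_aniso (F := F)
  set Q := qExt 3 (qBin (1 : F) a) with hQdef
  have hQ : PolarNondeg Q := polarNondeg_qExt (polarNondeg_qBin hab) 3
  have hn : finrank F ((Fin 3 ⊕ Fin 3) ⊕ Fin 2 → F) = 8 := by simp
  let X := (commutator (qAut Q)).map (qAut Q).subtype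
  haveI : Fact (Nat.Prime 2) := ⟨Nat.prime_two⟩
  haveI := finite_qAut Q
  haveI : Finite X := Finite.of_surjective
    (fun g : commutator (qAut Q) => (⟨g.1.1, g.1, g.2, rfl⟩ : X)) fun ⟨x, g, hg, hx⟩ => ⟨⟨g, hg⟩, Subtype.ext hx⟩
  refine CfsgLib.SpFourTwins.exists_twin_of (p := 2) X (A := AdmEight (Fintype.card F)) adm_psp
    (fun n hn => exists_psp hn) ?_ ?_ M
  · intro y
    obtain ⟨g, hg, hgy⟩ := y.right.2
    set T : Module.End F ((Fin 3 ⊕ Fin 3) ⊕ Fin 2 → F) := y.right.1.toLinearMap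
    have hTg : ∀ v, T v = g.1 v := fun v => by show y.right.1 v = _; rw [← hgy]; rfl
    have hrec : minpoly F T ∣ (minpoly F T).reverse := by
      refine minpoly.dvd F T (aeval_reverse_eq_zero (h := (y.right.1.symm.toLinearMap : Module.End F _))
        (LinearMap.ext fun v => y.right.1.apply_symm_apply v) _ ?_)
      have hadj : ∀ (p : F[X]) u v, QuadraticMap.polarBilin Q (aeval (y.right.1.symm.toLinearMap : Module.End F _) p u) v =
          QuadraticMap.polarBilin Q u (aeval T p v) := by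
        intro p
        induction p using Polynomial.induction_on' with
        | add p r hp hr => intro u v; simp only [map_add, LinearMap.add_apply, hp, hr]
        | monomial n c =>
          intro u v
          induction n generalizing u v with
          | zero => simp
          | succ n ih =>
            rw [← Polynomial.monomial_mul_X, map_mul, Module.End.mul_apply, ih, aeval_X, mul_comm, map_mul,
              Module.End.mul_apply, aeval_X]
            have h1 := qAut_polar g (y.right.1.symm u) ((aeval T (Polynomial.monomial n c)) v)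
            rw [← hTg, ← hTg] at h1
            show QuadraticMap.polar Q (y.right.1.symm u) _ = QuadraticMap.polar Q u (T _)
            rw [← h1, show T (y.right.1.symm u) = u from y.right.1.apply_symm_apply u]
      refine LinearMap.ext fun u => hQ _ fun v => ?_
      have := hadj (minpoly F T) u v
      rwa [minpoly.aeval, LinearMap.zero_apply, map_zero] at this
    have hpow : ∀ m, y.right ^ m = 1 ↔ T ^ m = 1 := by
      intro m
      have hc : ∀ k, (((y.right ^ k).1.toLinearMap) : Module.End F ((Fin 3 ⊕ Fin 3) ⊕ Fin 2 → F)) = T ^ k := by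
        intro k
        induction k with
        | zero => rfl
        | succ k ih => rw [pow_succ', pow_succ', ← ih]; rfl
      rw [← hc]
      constructor
      · intro h; rw [h]; rfl
      · intro h; exact Subtype.ext (LinearEquiv.ext fun v => LinearMap.congr_fun h v)
    have hint : IsIntegral F T := Algebra.IsIntegral.isIntegral T
    have hc0 := coeff_zero_ne_of_pow_eq_one (F := F) (orderOf_pos y.right) ((hpow _).1 (pow_orderOf_eq_one _))
    by_cases hfix : ∀ w, y.right.1 w = w → w = 0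
    · rw [orderOf_eq_of_no_fixed y hfix]
      obtain ⟨N, hN, hTN⟩ := exists_pow_of_selfrec (g := T) (minpoly.monic hint)
        ((natDegree_le_of_dvd (LinearMap.minpoly_dvd_charpoly T) T.charpoly_monic.ne_zero).trans
          (by rw [LinearMap.charpoly_natDegree, hn]))
        hc0 hrec (minpoly.aeval F T)
      exact ⟨N, hN, orderOf_dvd_of_pow_eq_one ((hpow N).2 hTN)⟩
    · push Not at hfix
      obtain ⟨w, hw, hw0⟩ := hfix
      have hev := (CfsgLib.Classical.Elusive.mem_commutator_iff_even Q hQ (by simp) g).1 hg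
      have hrange : finrank F (LinearMap.range (T - 1)) ≤ 6 := by
        have h1 : finrank F (LinearMap.range (T - 1)) = qRank Q g := by
          unfold qRank
          rw [show T = g.1.toLinearMap from LinearMap.ext hTg]
          rfl
        have h2 := LinearMap.finrank_range_add_finrank_ker (T - 1)
        have h3 : 1 ≤ finrank F (LinearMap.ker (T - 1)) := by
          refine Submodule.one_le_finrank_iff.2 fun h => hw0 ?_
          have : w ∈ LinearMap.ker (T - 1) := by
            rw [LinearMap.mem_ker, LinearMap.sub_apply, Module.End.one_apply, sub_eq_zero]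
            exact hw
          rwa [h, Submodule.mem_bot] at this
        rw [hn] at h2
        obtain ⟨r, hr⟩ := hev
        omega
      have hdeg := minpoly_natDegree_le T hrange
      have hX1 : (Polynomial.X - 1 : F[X]).Monic := by simpa using monic_X_sub_C (1 : F)
      obtain ⟨N, hN, r, hr⟩ := exists_exp (P := (Polynomial.X - 1) * minpoly F T) (hX1.mul (minpoly.monic hint))
        (by
          rw [hX1.natDegree_mul (minpoly.monic hint),
            show (Polynomial.X - 1 : F[X]).natDegree = 1 by simpa using natDegree_X_sub_C (1 : F)]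
          omega)
        (by simpa [Polynomial.mul_coeff_zero, Polynomial.coeff_one] using hc0)
        (by
          rw [reverse_mul_of_domain]
          refine mul_dvd_mul ?_ hrec
          rw [show (Polynomial.X - 1 : F[X]) = Polynomial.X - C 1 by rw [C_1], reverse_X_sub_C one_ne_zero]
          simp
          exact ⟨-1, by ring⟩)
      refine ⟨N, hN, orderOf_dvd_of_norm y ?_ ?_⟩
      · rw [hpow, ← sub_eq_zero]
        have := congrArg (aeval T) hr
        rwa [map_mul, map_mul, minpoly.aeval, mul_zero, zero_mul, map_sub, map_pow, aeval_X, map_one] at this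
      · have h1 : (Polynomial.X - 1 : F[X]) * ∑ i ∈ Finset.range N, Polynomial.X ^ i =
            (Polynomial.X - 1) * (minpoly F T * r) := by
          rw [mul_geom_sum, hr, mul_assoc]
        have h2 := congrArg (aeval T) (mul_left_cancel₀ hX1.ne_zero h1)
        rw [map_mul, minpoly.aeval, zero_mul, map_sum] at h2
        simpa using h2
  · rintro n ⟨N, hN, hnN⟩
    obtain ⟨A, hA, hev, hd⟩ := (exists_el hN).2
    obtain ⟨g, hg, hrk, hnorm⟩ := A.transport hA hab
    have hmem : g ∈ commutator (qAut Q) :=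
      (CfsgLib.Classical.Elusive.mem_commutator_iff_even Q hQ (by simp) g).2 (hrk ▸ hev)
    let x : X := ⟨g.1, g, hmem, rfl⟩
    have hox : orderOf x = orderOf A.g := by
      rw [← hg, ← orderOf_injective X.subtype Subtype.val_injective x,
        ← orderOf_injective (qAut Q).subtype Subtype.val_injective g]
      rfl
    rcases hd with hd | ⟨hNorm, hd⟩
    · exact ⟨SemidirectProduct.inr x, hnN.trans
        (by rw [orderOf_injective _ SemidirectProduct.inr_injective, hox]; exact hd)⟩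
    · obtain ⟨v, hv⟩ := hnorm hNorm
      refine ⟨⟨Multiplicative.ofAdd v, x⟩, hnN.trans (hd.trans ?_)⟩
      rw [CfsgLib.Spectrum.orderOf_eq_right_mul, hox, mul_comm 2]
      refine mul_dvd_mul_left _ (orderOf_eq_prime (exp_of_charP (K := F) _) ?_).symm.dvd
      intro h
      have h' := congrArg Multiplicative.toAdd h
      rw [pow_left, ← hg] at h'
      exact hv h'

end CfsgLib.SpFourTwins.Eight
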